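import Cfsg.Agent.CTwoTab.Good
import Cfsg.Agent.S0242
import Cfsg.Agent.S0243
import Cfsg.Agent.S0245
import Cfsg.Agent.S0246
import Cfsg.Agent.S0280
set_option linter.all false

/-!
# Exceptions of the `C₂` list excluded by the order (helper22)

* `good_of_card` : let `K / Z(K)` be on the list, `|K / Z(K)| = N`. If `N` is not the order of `L₂(q)`, `q ∈ FM9`, of
  `A₈`, `L₄(3)`, `PSp₄(3)`, `U₄(3)`, and no element of `Z(K)` has order 4 if `N = |L₃(4)|`, then `K` is good.
* `fm9_of_primes` : the condition on `L₂(q)` from the list of the prime divisors of `N`.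
-/

set_option autoImplicit false

namespace Cfsg.Agent.CTwoTab

open Subgroup Cfsg Matrix

universe u v

/-- the prime divisors of a product of prime powers -/
theorem prime_mem_of_dvd_prod {L : List (ℕ × ℕ)} (hL : ∀ x ∈ L, x.1.Prime) {q : ℕ} (hq : q.Prime)
    (h : q ∣ (L.map fun x => x.1 ^ x.2).prod) : q ∈ L.map Prod.fst := by
  induction L with
  | nil => exact absurd (Nat.dvd_one.1 h) hq.ne_one
  | cons a L ih =>
    rw [List.map_cons, List.prod_cons, hq.dvd_mul] at h
    rw [List.map_cons, List.mem_cons]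
    rcases h with h | h
    · left
      exact (Nat.prime_dvd_prime_iff_eq hq (hL a List.mem_cons_self)).1 (hq.dvd_of_dvd_pow h)
    · right
      exact ih (fun x hx => hL x (List.mem_cons_of_mem _ hx)) h

/-- **The condition on `L₂(q)` from the prime divisors of `2 N`.** -/
theorem fm9_of_primes {N : ℕ} (L : List (ℕ × ℕ)) (hL : ∀ x ∈ L, x.1.Prime)
    (hN : (L.map fun x => x.1 ^ x.2).prod = 2 * N) (hc : ∀ x ∈ L, x.1 * (x.1 ^ 2 - 1) ≠ 2 * N)
    (h9 : 720 ≠ 2 * N) (q : ℕ) (hq : IsFM9 q) : q * (q ^ 2 - 1) ≠ 2 * N := by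
  intro h
  rcases hq with ⟨hp, -⟩ | rfl
  · have h1 : q ∣ (L.map fun x => x.1 ^ x.2).prod := by
      rw [hN, ← h]
      exact dvd_mul_right _ _
    obtain ⟨x, hx, rfl⟩ := List.mem_map.1 (prime_mem_of_dvd_prod hL hp h1)
    exact hc x hx h
  · exact h9 (by rw [← h]; norm_num)

theorem card_psl_two {F : Type*} [Field F] [Fintype F] (h : Odd (Fintype.card F)) :
    Fintype.card F * (Fintype.card F ^ 2 - 1) = 2 * Nat.card (Matrix.ProjectiveSpecialLinearGroup (Fin 2) F) := by
  have h1 := Cfsg.Agent.S0243.result (F := F) rfl 2 le_rfl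
  obtain ⟨m, hm⟩ := h
  rw [hm] at h1 ⊢
  have hm0 : m ≠ 0 := by
    rintro rfl
    have : 1 < Fintype.card F := Fintype.one_lt_card
    omega
  rw [Fin.prod_univ_two] at h1
  have hg : Nat.gcd 2 (2 * m + 1 - 1) = 2 := by
    rw [Nat.add_sub_cancel]
    exact Nat.gcd_eq_left (dvd_mul_right 2 m)
  rw [hg] at h1
  set C := Nat.card (Matrix.ProjectiveSpecialLinearGroup (Fin 2) F)
  have e1 : 2 * m + 1 - 1 = 2 * m := by omega
  have e2 : (2 * m + 1) ^ 2 - (2 * m + 1) ^ ((0 : Fin 2) : ℕ) = 4 * m * (m + 1) := by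
    have : (2 * m + 1) ^ 2 = 4 * m * (m + 1) + 1 := by ring
    rw [this, Fin.val_zero, pow_zero, Nat.add_sub_cancel]
  have e3 : (2 * m + 1) ^ 2 - (2 * m + 1) ^ ((1 : Fin 2) : ℕ) = 2 * m * (2 * m + 1) := by
    have : (2 * m + 1) ^ 2 = 2 * m * (2 * m + 1) + (2 * m + 1) := by ring
    rw [this, Fin.val_one, pow_one, Nat.add_sub_cancel]
  have e4 : (2 * m + 1) ^ 2 - 1 = 4 * m * (m + 1) := by
    have : (2 * m + 1) ^ 2 = 4 * m * (m + 1) + 1 := by ring
    rw [this, Nat.add_sub_cancel]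
  rw [e1, e2, e3] at h1
  rw [e4]
  have h2 : (4 * m) * C = (4 * m) * (2 * m * (m + 1) * (2 * m + 1)) := by
    calc (4 * m) * C = 2 * (2 * m * C) := by ring
      _ = 4 * m * (m + 1) * (2 * m * (2 * m + 1)) := h1
      _ = _ := by ring
  have h3 := Nat.eq_of_mul_eq_mul_left (by positivity) h2
  rw [h3]
  ring

/-- an equivalence induces one of the central quotients, hence an equality of orders -/
theorem card_quo_congr {K : Type u} {L : Type v} [Group K] [Group L] (e : K ≃* L) :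
    Nat.card (K ⧸ center K) = Nat.card (L ⧸ center L) := Nat.card_congr (quoEquiv e).toEquiv

theorem card_psl_four_three {F : Type*} [Field F] [Fintype F] (h : Fintype.card F = 3) :
    Nat.card (Matrix.SpecialLinearGroup (Fin 4) F ⧸ center (Matrix.SpecialLinearGroup (Fin 4) F)) = 6065280 := by
  have h1 := Cfsg.Agent.S0243.result h 4 (by norm_num)
  have h2 : Nat.gcd 4 (3 - 1) = 2 := by decide
  rw [h2, Fin.prod_univ_four] at h1
  norm_num at h1
  change Nat.card (Matrix.ProjectiveSpecialLinearGroup (Fin 4) F) = 6065280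
  omega

theorem card_psp_four_three {F : Type*} [Field F] [Fintype F] (h : Fintype.card F = 3) :
    Nat.card (↥(Matrix.symplecticGroup (Fin 2) F) ⧸ center ↥(Matrix.symplecticGroup (Fin 2) F)) = 25920 := by
  have h1 := Cfsg.Agent.S0245.result h 2
  have h2 := Cfsg.Agent.S0246.result h 2 (by norm_num)
  have h3 := Subgroup.card_mul_index (center ↥(Matrix.symplecticGroup (Fin 2) F))
  rw [h2, h1] at h3
  have h4 : (center ↥(Matrix.symplecticGroup (Fin 2) F)).index =
    Nat.card (↥(Matrix.symplecticGroup (Fin 2) F) ⧸ center ↥(Matrix.symplecticGroup (Fin 2) F)) := rfl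
  rw [h4] at h3
  have h5 : Nat.gcd 2 (3 - 1) = 2 := by decide
  rw [h5, Finset.prod_range_succ, Finset.prod_range_succ, Finset.prod_range_zero] at h3
  norm_num at h3
  omega

theorem card_psu_four_three {F : Type*} [Field F] [Fintype F] (h : Fintype.card F = 9) :
    Nat.card (PSU 4 F 3) = 3265920 := by
  have h1 := Cfsg.Agent.S0280.result (F := F) (q := 3) (by rw [h]; norm_num) 4 (by norm_num)
  have h2 : Nat.gcd 4 (3 + 1) = 4 := by decide
  rw [h2] at h1
  simp only [Finset.prod_range_succ, Finset.prod_range_zero] at h1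
  have e0 : Even 0 := by decide
  have e1 : ¬ Even 1 := by decide
  have e2 : Even 2 := by decide
  have e3 : ¬ Even 3 := by decide
  rw [if_pos e0, if_neg e1, if_pos e2, if_neg e3] at h1
  norm_num at h1
  omega

theorem card_alt_eight : Nat.card ↥(alternatingGroup (Fin 8)) = 20160 := by
  have h := nat_card_alternatingGroup (α := Fin 8)
  have h8 : Nat.factorial 8 = 40320 := by decide
  rw [Nat.card_eq_fintype_card (α := Fin 8), Fintype.card_fin, h8] at h
  exact h

/-- **Good by the order**: `|K / Z(K)| = N`. -/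
theorem good_of_card {K : Type*} [Group K] (h : IsCpSimple 2 (K ⧸ center K)) {N : ℕ}
    (hN : Nat.card (K ⧸ center K) = N) (hq : ∀ q, IsFM9 q → q * (q ^ 2 - 1) ≠ 2 * N)
    (h8 : N ≠ 20160 ∨ Nat.card (center K) ≠ 2) (h43 : N ≠ 6065280) (hsp : N ≠ 25920) (hsu : N ≠ 3265920)
    (h34 : N ≠ 20160 ∨ ∀ z ∈ center K, orderOf z ≠ 4) : Good K := by
  refine ⟨h, ?_⟩
  rintro (⟨-, h⟩ | ⟨hp, -⟩)
  swap
  · omega
  rcases h with ⟨F, i1, i2, h1, ⟨f⟩⟩ | ⟨h1, ⟨f⟩⟩ | ⟨F, i1, i2, h1, ⟨⟨f⟩⟩ | ⟨⟨f⟩⟩⟩ | ⟨F, i1, i2, h1, ⟨f⟩⟩ |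
    ⟨⟨F, i1, i2, h1, ⟨f⟩⟩, z, hz', hz4⟩
  · have h2 := card_quo_congr f
    rw [hN] at h2
    apply hq _ h1
    rw [h2]
    exact card_psl_two (isFM9_odd h1)
  · rcases h8 with h8 | h8
    · apply h8
      rw [← hN, Nat.card_congr f.toEquiv, card_alt_eight]
    · exact h8 h1
  · apply h43
    rw [← hN, card_quo_congr f, card_psl_four_three h1]
  · apply hsp
    rw [← hN, card_quo_congr f, card_psp_four_three h1]
  · apply hsu
    rw [← hN, card_quo_congr f]
    exact card_psu_four_three h1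
  · rcases h34 with h34 | h34
    · apply h34
      rw [← hN, Nat.card_congr f.toEquiv]
      have h2 := Cfsg.Agent.S0243.result h1 3 (by norm_num)
      have h3 : Nat.gcd 3 (4 - 1) = 3 := by decide
      rw [h3, Fin.prod_univ_three] at h2
      norm_num at h2
      omega
    · exact h34 z hz' hz4

end Cfsg.Agent.CTwoTab
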