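import Cfsg.Agent.CTwoTab.Base
import Cfsg.Agent.S0242
import Cfsg.Agent.S0243
import Cfsg.Agent.S0245
import Cfsg.Agent.S0278
set_option linter.all false

/-!
# The table "components of involution centralizers are `C₂`-groups": orders of the exceptions (helper49)

* `card_of_exception` : the orders of the exceptions to the `C₂` list;
* `not_exc_of_card` : a group of another order is not an exception;
* `quo_quasisimple`, `quoCenterEquiv` : a perfect central extension of a simple group.
-/

set_option autoImplicit false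

namespace Cfsg.Agent.CTwoTab

open Subgroup Cfsg

/-! ### Orders -/

theorem card_SL_two (F : Type) [Field F] [Fintype F] :
    Nat.card (Matrix.SpecialLinearGroup (Fin 2) F) = Fintype.card F * (Fintype.card F ^ 2 - 1) := by
  have h := S0242.result (F := F) rfl 2 (by norm_num)
  rw [Fin.prod_univ_two] at h
  have hq : 1 < Fintype.card F := Fintype.one_lt_card
  have h0 : 0 < Fintype.card F - 1 := by omega
  apply Nat.eq_of_mul_eq_mul_left h0
  rw [h]
  have : Fintype.card F ^ 2 - Fintype.card F ^ 1 = Fintype.card F * (Fintype.card F - 1) := by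
    rw [Nat.mul_sub, mul_one, pow_two, pow_one]
  simp only [Fin.val_zero, Fin.val_one, pow_zero]
  rw [this]; ring

theorem card_SL_four (F : Type) [Field F] [Fintype F] (hF : Fintype.card F = 3) :
    Nat.card (Matrix.SpecialLinearGroup (Fin 4) F) = 12130560 := by
  have h := S0242.result (F := F) hF 4 (by norm_num)
  rw [Fin.prod_univ_four] at h
  norm_num at h
  omega

theorem card_Sp_four (F : Type) [Field F] [Fintype F] (hF : Fintype.card F = 3) :
    Nat.card ↥(Matrix.symplecticGroup (Fin 2) F) = 51840 := by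
  rw [S0245.result hF 2, Finset.prod_range_succ, Finset.prod_range_succ, Finset.prod_range_zero]
  norm_num

theorem card_SU_four (F : Type) [Field F] [Fintype F] (hF : Fintype.card F = 9) :
    Nat.card ↥(SU 4 F 3) = 13063680 := by
  have h := S0278.result (F := F) (q := 3) (by rw [hF]; norm_num) 4 (by norm_num)
  rw [Finset.prod_range_succ, Finset.prod_range_succ, Finset.prod_range_succ, Finset.prod_range_succ,
    Finset.prod_range_zero] at h
  rw [if_pos (by decide), if_neg (by decide), if_pos (by decide), if_neg (by decide)] at h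
  norm_num at h
  omega

theorem card_PSL_three (F : Type) [Field F] [Fintype F] (hF : Fintype.card F = 4) :
    Nat.card (Matrix.ProjectiveSpecialLinearGroup (Fin 3) F) = 20160 := by
  have h := S0243.result (F := F) hF 3 (by norm_num)
  rw [Fin.prod_univ_three] at h
  norm_num at h
  omega

theorem card_A8 : Nat.card ↥(alternatingGroup (Fin 8)) = 20160 := by
  have h := two_mul_nat_card_alternatingGroup (α := Fin 8)
  rw [Nat.card_perm, Nat.card_fin] at h
  have : Nat.factorial 8 = 40320 := by decide
  omega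

/-- the orders of the exceptions to the `C₂` list -/
theorem card_of_exception {K : Type*} [Group K] (h : IsCpException 2 K) :
    (∃ q : ℕ, IsFM9 q ∧ Nat.card K = q * (q ^ 2 - 1)) ∨ Nat.card (K ⧸ center K) = 20160 ∨
      Nat.card K = 12130560 ∨ Nat.card K = 51840 ∨ Nat.card K = 13063680 := by
  rcases h with ⟨-, h⟩ | ⟨h, -⟩
  swap
  · omega
  rcases h with ⟨F, _, _, h1, ⟨e⟩⟩ | ⟨-, ⟨e⟩⟩ | ⟨F, _, _, h1, ⟨⟨e⟩⟩ | ⟨⟨e⟩⟩⟩ | ⟨F, _, _, h1, ⟨e⟩⟩ |
    ⟨⟨F, _, _, h1, ⟨e⟩⟩, -⟩
  · exact Or.inl ⟨_, h1, (Nat.card_congr e.toEquiv).trans (card_SL_two F)⟩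
  · exact Or.inr (Or.inl ((Nat.card_congr e.toEquiv).trans card_A8))
  · exact Or.inr (Or.inr (Or.inl ((Nat.card_congr e.toEquiv).trans (card_SL_four F h1))))
  · exact Or.inr (Or.inr (Or.inr (Or.inl ((Nat.card_congr e.toEquiv).trans (card_Sp_four F h1)))))
  · exact Or.inr (Or.inr (Or.inr (Or.inr ((Nat.card_congr e.toEquiv).trans (card_SU_four F h1)))))
  · exact Or.inr (Or.inl ((Nat.card_congr e.toEquiv).trans (card_PSL_three F h1)))

theorem mul_sq_sub_one_lt {a b : ℕ} (ha : 1 ≤ a) (h : a < b) : a * (a ^ 2 - 1) < b * (b ^ 2 - 1) := by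
  have h1 : a ^ 2 - 1 ≤ b ^ 2 - 1 := Nat.sub_le_sub_right (Nat.pow_le_pow_left h.le 2) 1
  have h2 : 0 < b ^ 2 - 1 := by
    have : 2 ≤ b := by omega
    have := Nat.pow_le_pow_left this 2
    omega
  calc a * (a ^ 2 - 1) ≤ a * (b ^ 2 - 1) := Nat.mul_le_mul_left a h1
    _ < b * (b ^ 2 - 1) := Nat.mul_lt_mul_of_pos_right h h2

/-- a number strictly between two values is not of the form `q (q² - 1)` -/
theorem ne_of_between {n : ℕ} (a : ℕ) (ha : 1 ≤ a) (h1 : a * (a ^ 2 - 1) < n)
    (h2 : n < (a + 1) * ((a + 1) ^ 2 - 1)) (q : ℕ) : n ≠ q * (q ^ 2 - 1) := by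
  rintro rfl
  rcases le_or_gt q a with h | h
  · rcases h.lt_or_eq with h | rfl
    · rcases Nat.eq_zero_or_pos q with rfl | hq
      · simp at h1
      · exact absurd (mul_sq_sub_one_lt hq h) (by omega)
    · omega
  · rcases (Nat.succ_le_of_lt h).lt_or_eq with h | h
    · exact absurd (mul_sq_sub_one_lt (by omega) h) (by simp only [Nat.succ_eq_add_one]; omega)
    · rw [← h] at h2
      simp only [Nat.succ_eq_add_one] at h2
      omega

/-- **Not an exception**, by the order: `a` is the integer with `a³ - a < |K| < (a+1)³ - (a+1)`. -/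
theorem not_exc_of_card {K : Type*} [Group K] {n : ℕ} (hn : Nat.card K = n) (a : ℕ) (ha : 1 ≤ a)
    (h1 : a * (a ^ 2 - 1) < n) (h2 : n < (a + 1) * ((a + 1) ^ 2 - 1))
    (hq : Nat.card (K ⧸ center K) ≠ 20160) (h3 : n ≠ 12130560) (h4 : n ≠ 51840) (h5 : n ≠ 13063680) :
    ¬ IsCpException 2 K := by
  intro h
  rcases card_of_exception h with ⟨q, -, h⟩ | h | h | h | h
  · exact ne_of_between a ha h1 h2 q (hn.symm.trans h)
  · exact hq h
  · exact h3 (hn.symm.trans h)
  · exact h4 (hn.symm.trans h)
  · exact h5 (hn.symm.trans h)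

/-! ### Perfect central extensions of simple groups -/

section ext

variable {H S : Type*} [Group H] [Group S]

/-- the kernel is the centre -/
theorem ker_eq_center {π : H →* S} (hπ : Function.Surjective π) (hc : center S = ⊥)
    (hk : π.ker ≤ center H) : π.ker = center H := by
  apply le_antisymm hk
  intro x hx
  have : π x ∈ center S := by
    rw [mem_center_iff]
    intro s
    obtain ⟨y, rfl⟩ := hπ s
    rw [← map_mul, ← map_mul, mem_center_iff.1 hx y]
  rw [hc, mem_bot] at this
  exact this

/-- `H / Z(H) ≅ S` -/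
noncomputable def quoCenterEquiv {π : H →* S} (hπ : Function.Surjective π) (hc : center S = ⊥)
    (hk : π.ker ≤ center H) : (H ⧸ center H) ≃* S :=
  (QuotientGroup.quotientMulEquivOfEq (ker_eq_center hπ hc hk).symm).trans
    (QuotientGroup.quotientKerEquivOfSurjective π hπ)

theorem simple_center_eq_bot [IsSimpleGroup S] (hna : ∃ a b : S, a * b ≠ b * a) : center S = ⊥ := by
  rcases (inferInstance : (center S).Normal).eq_bot_or_eq_top with h | h
  · exact h
  · exfalso
    obtain ⟨a, b, hab⟩ := hna
    apply hab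
    have : b ∈ center S := by rw [h]; exact mem_top _
    exact mem_center_iff.1 this a

/-- a perfect central extension of a simple group is quasisimple -/
theorem quo_quasisimple {π : H →* S} [IsSimpleGroup S] (hπ : Function.Surjective π) (hc : center S = ⊥)
    (hk : π.ker ≤ center H) (hp : _root_.commutator H = ⊤) : IsQuasisimple H :=
  ⟨Group.isPerfect_def.2 hp, (quoCenterEquiv hπ hc hk).isSimpleGroup⟩

theorem card_of_ext {π : H →* S} (hπ : Function.Surjective π) : Nat.card H = Nat.card π.ker * Nat.card S := by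
  rw [← Subgroup.card_mul_index π.ker, index_ker, MonoidHom.range_eq_top.2 hπ,
    Nat.card_congr Subgroup.topEquiv.toEquiv]

end ext

end Cfsg.Agent.CTwoTab
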