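import Cfsg.Agent.CTwoTab.Bal
import Cfsg.Agent.CTwoTab.Card
import Cfsg.Agent.CTwoTab.Exc
set_option linter.all false

/-!
# Particular components on the `C₂` list (helper22)
-/

set_option autoImplicit false

namespace Cfsg.Agent.CTwoTab

open Subgroup Cfsg

theorem charP_two_of_card {F : Type*} [Field F] [Fintype F] {n : ℕ} (h : Fintype.card F = 2 ^ n) : CharP F 2 := by
  have h1 : (Fintype.card F : F) = 0 := Nat.cast_card_eq_zero F
  rw [h, Nat.cast_pow, Nat.cast_ofNat] at h1
  have h2 : (2 : F) = 0 := by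
    rcases Nat.eq_zero_or_pos n with rfl | hn
    · rw [pow_zero] at h1
      exact absurd h1 one_ne_zero
    · exact (pow_eq_zero_iff (by omega)).1 h1
  exact CharTwo.of_one_ne_zero_of_two_eq_zero one_ne_zero h2

/-- `L₃(4)` is on the list. -/
theorem cp_L34 {K : Type*} [Group K] {F : Type} [Field F] [Fintype F] (hF : Fintype.card F = 4)
    (e : K ≃* Matrix.ProjectiveSpecialLinearGroup (Fin 3) F) : IsCpSimple 2 K :=
  Or.inl (Or.inl (Or.inl ⟨F, inferInstance, inferInstance,
    charP_two_of_card (n := 2) (by rw [hF]; norm_num), 3, by norm_num, fun h => by omega, ⟨e⟩⟩))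

theorem card_L34 {K : Type*} [Group K] {F : Type} [Field F] [Fintype F] (hF : Fintype.card F = 4)
    (e : K ≃* Matrix.ProjectiveSpecialLinearGroup (Fin 3) F) : Nat.card K = 20160 :=
  (Nat.card_congr e.toEquiv).trans (card_PSL_three F hF)

/-- a covering of `L₃(4)` is good if its centre has exponent 2 and order `≠ 2` -/
theorem good_cover_L34 {K : Type*} [Group K] {F : Type} [Field F] [Fintype F] (hF : Fintype.card F = 4)
    (e : K ⧸ center K ≃* Matrix.ProjectiveSpecialLinearGroup (Fin 3) F) (h2 : Nat.card (center K) ≠ 2)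
    (h4 : ∀ z ∈ center K, orderOf z ≠ 4) : Good K := by
  refine good_of_card (cp_L34 hF e) (card_L34 hF e) (fun q _ => ?_) (Or.inr h2) (by norm_num) (by norm_num)
    (by norm_num) (Or.inr h4)
  exact (ne_of_between 34 (by norm_num) (by norm_num) (by norm_num) q).symm

/-! ### alternating groups -/

theorem na_alt {K : Type*} [Group K] {n : ℕ} (hn : 5 ≤ n) (e : K ≃* ↥(alternatingGroup (Fin n))) :
    ¬ IsMulCommutative K := by
  intro h
  have hc : center ↥(alternatingGroup (Fin n)) = ⊥ :=
    alternatingGroup.center_eq_bot (by rw [Nat.card_eq_fintype_card, Fintype.card_fin]; omega)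
  have h1 : center ↥(alternatingGroup (Fin n)) = ⊤ := by
    rw [eq_top_iff]
    intro x _
    rw [mem_center_iff]
    intro y
    apply e.symm.injective
    rw [map_mul, map_mul]
    exact h.is_comm.comm _ _
  have : IsSimpleGroup ↥(alternatingGroup (Fin n)) :=
    alternatingGroup.isSimpleGroup (by rw [Nat.card_eq_fintype_card, Fintype.card_fin]; omega)
  rw [hc] at h1
  exact bot_ne_top h1

theorem simple_alt {K : Type*} [Group K] {n : ℕ} (hn : 5 ≤ n) (e : K ≃* ↥(alternatingGroup (Fin n))) :
    IsSimpleGroup K := by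
  have : IsSimpleGroup ↥(alternatingGroup (Fin n)) :=
    alternatingGroup.isSimpleGroup (by rw [Nat.card_eq_fintype_card, Fintype.card_fin]; omega)
  exact e.isSimpleGroup

theorem quasi_alt {K : Type*} [Group K] {n : ℕ} (hn : 5 ≤ n) (e : K ≃* ↥(alternatingGroup (Fin n))) :
    IsQuasisimple K := by
  have : IsSimpleGroup K := simple_alt hn e
  exact isQuasisimple_of_simple (na_alt hn e)

theorem good_A6 {K : Type*} [Group K] (e : K ≃* ↥(alternatingGroup (Fin 6))) : Good K := by
  have : IsSimpleGroup K := simple_alt (by norm_num) e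
  exact good_of_simple (na_alt (by norm_num) e) (Or.inl (Or.inr (Or.inl ⟨rfl, Or.inl ⟨e⟩⟩)))

end Cfsg.Agent.CTwoTab
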