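import Cfsg.Agent.CTwoTab.Exc
import Cfsg.Agent.OddHalf.D4.Spor.Fi22
import Cfsg.Agent.Lib.ThompsonPQ
import Cfsg.Agent.S0280
import Cfsg.Agent.FastGrp
import Cfsg.Agent.Prune
set_option linter.all false
prune_inst 0x7f00000000000000000000000000000000000000000000000000000000000000000000000000000000000000000000000000000000000000000000000000000000000000000000000000000000000000003fffffffffffffffffffffffffffbeffbdffffffff
open scoped Cfsg.Agent.FastGrp

/-!
# The components of the involution centralizers of `Fi22` (helper6)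

* a transposition `d` : `C(d)` is quasisimple, `C(d) / ⟨d⟩ = U6(2)`;
* a product of two commuting transpositions : `C(z)` is of characteristic 2;
* a product `w` of three commuting transpositions : `C(w)` has no component.
-/

set_option autoImplicit false

namespace Cfsg.Agent.CTwoTab.Fi22

open Subgroup Cfsg Cfsg.Agent.R01.FiFusion Cfsg.Agent.R01.FiFacts Cfsg.Agent.StdFi22.TLev
open Cfsg.Agent.OddHalf.D8.Fi22
open Cfsg.Agent.OddHalf.D4.Spor.Fi22 (inv_cases bal comm_tri sq_one comm_w)
open Cfsg.Agent.StdFi22.MainFi22 (bas)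
open Cfsg.Agent.R08.AutT (T)

theorem finite : Finite Spor.Fi22 := Cfsg.Agent.R01.Fi22Facts.finite

theorem facts {a b : Spor.Fi22} (ha : a ∈ T) (hb : b ∈ T) (hab : a ≠ b) (cab : a * b = b * a) :
    ∃ R : Subgroup Spor.Fi22, KFacts.FiTT.Facts Spor.Fi22 a b R := by
  have hT : ∀ x ∈ T, x ∈ (MulEquiv.refl Spor.Fi22).symm '' Cfsg.Agent.R01.Fi22Facts.T :=
    fun x hx => ⟨x, hx, rfl⟩
  obtain ⟨R, hR⟩ := all_of_iso (MulEquiv.refl Spor.Fi22) (hT a ha) (hT b hb) hab cab
  exact ⟨R, hR.facts⟩

/-! ### The cores -/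

theorem core {t : Spor.Fi22} (ht : orderOf t = 2) : centralizerPPrimeCore 2 t = ⊥ := by
  have := finite
  have tt : t * t = 1 := by rw [← pow_two, ← ht, pow_orderOf_eq_one]
  have t1 : t ≠ 1 := by
    rintro rfl
    rw [orderOf_one] at ht
    omega
  have hN : (pPrimeCore 2 ↥(centralizer ({t} : Set Spor.Fi22))).Normal := Lib.Cores.pPrimeCore_normal 2
  refine bal t tt t1 _ ?_ ?_ ?_
  · rintro _ ⟨x, -, rfl⟩
    exact mem_centralizer_singleton_iff.1 x.2
  · rintro c hc _ ⟨x, hx, rfl⟩
    exact ⟨(⟨c, mem_centralizer_singleton_iff.2 hc⟩ * x * ⟨c, mem_centralizer_singleton_iff.2 hc⟩⁻¹ :),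
      hN.conj_mem x hx _, rfl⟩
  · have h1 : (Nat.card ↥(pPrimeCore 2 ↥(centralizer ({t} : Set Spor.Fi22)))).Coprime 2 :=
      Lib.Cores.pPrimeCore_coprime 2
    have h2 : Nat.card ↥(centralizerPPrimeCore 2 t) =
        Nat.card ↥(pPrimeCore 2 ↥(centralizer ({t} : Set Spor.Fi22))) :=
      card_map_of_injective (Subgroup.subtype_injective _)
    rw [h2]
    exact Nat.coprime_two_right.1 h1

/-! ### Transpositions -/

theorem card_PSU_six {F : Type} [Field F] [Fintype F] (hF : Fintype.card F = 4) :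
    Nat.card (PSU 6 F 2) = 9196830720 := by
  have h := Cfsg.Agent.S0280.result (F := F) (q := 2) (by rw [hF]; norm_num) 6 (by norm_num)
  have e : (∏ i ∈ Finset.range 6, (if Even i then 2 ^ (i + 1) + 1 else 2 ^ (i + 1) - 1)) = 3 * 3 * 9 * 15 * 33 * 63 := by
    decide
  have e2 : Nat.gcd 6 (2 + 1) = 3 := by norm_num
  rw [e, e2] at h
  norm_num at h
  omega

section two_a

variable {d b : Spor.Fi22} {R : Subgroup Spor.Fi22} (F : KFacts.FiTT.Facts Spor.Fi22 d b R)
include F

theorem card_center : Nat.card ↥(center ↥(centralizer ({d} : Set Spor.Fi22))) = 2 := by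
  have hd : d ∈ centralizer ({d} : Set Spor.Fi22) := mem_centralizer_singleton_iff.2 rfl
  let D : ↥(centralizer ({d} : Set Spor.Fi22)) := ⟨d, hd⟩
  have h1 : center ↥(centralizer ({d} : Set Spor.Fi22)) = zpowers D := by
    apply le_antisymm
    · intro x hx
      have h2 : ∀ y : Spor.Fi22, y * d = d * y → (x : Spor.Fi22) * y = y * x := by
        intro y hy
        have := mem_center_iff.1 hx ⟨y, mem_centralizer_singleton_iff.2 hy⟩
        exact (congrArg Subtype.val this).symm
      rcases F.cc x h2 with h | h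
      · have : x = 1 := Subtype.ext h
        rw [this]
        exact one_mem _
      · have : x = D := Subtype.ext h
        rw [this]
        exact mem_zpowers _
    · rw [zpowers_le, mem_center_iff]
      intro y
      exact Subtype.ext (mem_centralizer_singleton_iff.1 y.2)
  rw [h1, Nat.card_zpowers]
  refine orderOf_eq_prime ?_ ?_
  · rw [pow_two]
    exact Subtype.ext F.dd
  · intro h
    exact F.d_ne (congrArg Subtype.val h)

theorem card_quo : Nat.card (↥(centralizer ({d} : Set Spor.Fi22)) ⧸ center ↥(centralizer ({d} : Set Spor.Fi22))) =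
    9196830720 := by
  obtain ⟨K, _, _, hK, ⟨e⟩⟩ := F.quo
  rw [Nat.card_congr e.toEquiv, card_PSU_six hK]

theorem card_cent : Nat.card ↥(centralizer ({d} : Set Spor.Fi22)) = 18393661440 := by
  rw [card_eq_card_quotient_mul_card_subgroup (center ↥(centralizer ({d} : Set Spor.Fi22))), card_quo F,
    card_center F]

theorem good : Good ↥(centralizer ({d} : Set Spor.Fi22)) := by
  obtain ⟨K, i1, i2, hK, ⟨e⟩⟩ := F.quo
  constructor
  · have hc : CharP K 2 := by
      obtain ⟨p, hp⟩ := CharP.exists K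
      have hp' : p.Prime := (CharP.char_is_prime_or_zero K p).resolve_right
        (fun h0 => by subst h0; exact CharP.char_ne_zero_of_finite K 0 rfl)
      obtain ⟨k, hk1, hk2⟩ := FiniteField.card K p
      have h2 : p = 2 := by
        have h1 : p ∣ 2 ^ 2 := by
          rw [show (2 ^ 2 : ℕ) = 4 by norm_num, ← hK, hk2]
          exact dvd_pow_self p k.pos.ne'
        exact (Nat.prime_dvd_prime_iff_eq hp' Nat.prime_two).mp (hp'.dvd_of_dvd_pow h1)
      rwa [h2] at hp
    exact Or.inl (Or.inl (Or.inr (Or.inr (Or.inl ⟨K, i1, i2, hc, 6, 2, by rw [hK]; norm_num, by norm_num,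
      by omega, ⟨e⟩⟩))))
  · exact not_exc_of_card (card_cent F) 2639 (by norm_num) (by norm_num) (by norm_num) (by rw [card_quo F]; norm_num)
      (by norm_num) (by norm_num) (by norm_num)

end two_a

theorem at_one {d : Spor.Fi22} (hd : d ∈ T) : At Spor.Fi22 d := by
  have := finite
  obtain ⟨b, c, ht⟩ := bas.exists_tri hd
  obtain ⟨R, F⟩ := facts hd ht.my ht.xy ht.cxy
  have hd2 : orderOf d = 2 := orderOf_eq_prime (by rw [pow_two]; exact F.dd) F.d_ne
  exact At.of_comp (core hd2) F.quasi le_rfl (fun P hP _ => hP) (good F)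

/-! ### Products of two commuting transpositions -/

theorem mem_pair {a b x : Spor.Fi22} : x ∈ centralizer ({a, b} : Set Spor.Fi22) ↔ x * a = a * x ∧ x * b = b * x := by
  rw [mem_centralizer_iff]
  constructor
  · intro h
    exact ⟨(h a (Set.mem_insert _ _)).symm, (h b (Set.mem_insert_of_mem _ rfl)).symm⟩
  · rintro ⟨h1, h2⟩ y (rfl | rfl)
    · exact h1.symm
    · exact h2.symm

theorem comm_mul {a b x : Spor.Fi22} (h1 : x * a = a * x) (h2 : x * b = b * x) : x * (a * b) = a * b * x := by
  rw [← mul_assoc, h1, mul_assoc, h2, mul_assoc]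

theorem at_two {a b : Spor.Fi22} (ha : a ∈ T) (hb : b ∈ T) (hab : a ≠ b) (cab : a * b = b * a) :
    At Spor.Fi22 (a * b) := by
  have := finite
  obtain ⟨R, F⟩ := facts ha hb hab cab
  refine At.of_pGroup (R := R) ?_ ?_ F.R_two ?_
  · intro x hx
    obtain ⟨h1, h2⟩ := mem_pair.1 (F.R_le hx)
    exact mem_centralizer_singleton_iff.2 (comm_mul h1 h2)
  · intro c hc r hr
    exact F.R_normal c (mem_centralizer_singleton_iff.1 hc) r hr
  · intro c _ h
    rcases F.R_center c h with rfl | rfl | rfl | rfl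
    · exact one_mem _
    · exact F.d_mem
    · exact F.d'_mem
    · exact mul_mem F.d_mem F.d'_mem

/-! ### Products of three commuting transpositions -/

/-- A component of `C` lying in `D ≤ C` is a component of `D`. -/
theorem isComponentOf_of_le {X : Type*} [Group X] {K C D : Subgroup X} (hK : IsComponentOf K C) (hDC : D ≤ C)
    (hKD : K ≤ D) : IsComponentOf K D := by
  obtain ⟨hKC, hsub, hq⟩ := hK
  refine ⟨hKD, ?_, ?_⟩
  · have h2 := hsub.comap (Subgroup.inclusion hDC)
    have h3 : (K.subgroupOf C).comap (Subgroup.inclusion hDC) = K.subgroupOf D := by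
      ext x
      simp [mem_subgroupOf]
    rwa [h3] at h2
  · exact SignalizersComponents.Components.isQuasisimple_of_mulEquiv
      ((subgroupOfEquivOfLe hKC).trans (subgroupOfEquivOfLe hKD).symm) hq

/-- the elements of `C(w)` commuting with the transpositions of `C(w)` -/
def ee (w : Spor.Fi22) : Subgroup Spor.Fi22 :=
  centralizer {t : Spor.Fi22 | t ∈ T ∧ t * w = w * t} ⊓ centralizer ({w} : Set Spor.Fi22)

theorem mem_ee {w x : Spor.Fi22} : x ∈ ee w ↔ (∀ t ∈ T, t * w = w * t → x * t = t * x) ∧ x * w = w * x := by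
  rw [ee, mem_inf, mem_centralizer_iff, mem_centralizer_singleton_iff]
  constructor
  · rintro ⟨h1, h2⟩
    exact ⟨fun t ht htw => (h1 t ⟨ht, htw⟩).symm, h2⟩
  · rintro ⟨h1, h2⟩
    exact ⟨fun t ht => (h1 t ht.1 ht.2).symm, h2⟩

theorem ee_normal {w : Spor.Fi22} : ∀ c ∈ centralizer ({w} : Set Spor.Fi22), ∀ r ∈ ee w, c * r * c⁻¹ ∈ ee w := by
  intro c hc r hr
  rw [mem_centralizer_singleton_iff] at hc
  rw [mem_ee] at hr ⊢
  obtain ⟨h1, h2⟩ := hr
  constructor
  · intro t ht htw
    have k1 : c⁻¹ * t * c ∈ T := by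
      have := bas.conjT c⁻¹ ht
      rwa [inv_inv] at this
    have hc' : c⁻¹ * w = w * c⁻¹ := by
      rw [inv_mul_eq_iff_eq_mul, ← mul_assoc, hc, mul_assoc, mul_inv_cancel, mul_one]
    have k2 : c⁻¹ * t * c * w = w * (c⁻¹ * t * c) := by
      calc c⁻¹ * t * c * w = c⁻¹ * t * (c * w) := by group
        _ = c⁻¹ * (t * w) * c := by rw [hc]; group
        _ = (c⁻¹ * w) * t * c := by rw [htw]; group
        _ = w * (c⁻¹ * t * c) := by rw [hc']; group
    have k3 := h1 _ k1 k2
    calc c * r * c⁻¹ * t = c * (r * (c⁻¹ * t * c)) * c⁻¹ := by group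
      _ = c * ((c⁻¹ * t * c) * r) * c⁻¹ := by rw [k3]
      _ = t * (c * r * c⁻¹) := by group
  · have hc' : c⁻¹ * w = w * c⁻¹ := by
      rw [inv_mul_eq_iff_eq_mul, ← mul_assoc, hc, mul_assoc, mul_inv_cancel, mul_one]
    calc c * r * c⁻¹ * w = c * r * (c⁻¹ * w) := by group
      _ = c * (r * w) * c⁻¹ := by rw [hc']; group
      _ = (c * w) * r * c⁻¹ := by rw [h2]; group
      _ = w * (c * r * c⁻¹) := by rw [hc]; group

section three

variable {a b c : Spor.Fi22} (ht : Tri T a b c)
include ht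

theorem ee_sq {x : Spor.Fi22} (hx : x ∈ ee (a * b * c)) : x * x = 1 := by
  have := finite
  rw [mem_ee] at hx
  exact sq_one bas ht fun t htT h1 h2 h3 => hx.1 t htT (comm_w bas ht h1 h2 h3)

theorem ee_solvable : Group.IsSolvable ↥(ee (a * b * c)) := by
  have hp : IsPGroup 2 ↥(ee (a * b * c)) := fun x => ⟨1, by
    rw [pow_one, pow_two]
    exact Subtype.ext (ee_sq ht x.2)⟩
  have : Fact (Nat.Prime 2) := ⟨Nat.prime_two⟩
  have := finite
  have hnil := hp.isNilpotent
  infer_instance

theorem mem_a : a ∈ ee (a * b * c) := by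
  have := finite
  rw [mem_ee]
  refine ⟨fun t htT h => ((comm_tri bas ht htT h).1).symm, comm_w bas ht rfl ht.cxy ht.cxw⟩

theorem mem_b : b ∈ ee (a * b * c) := by
  have := finite
  rw [mem_ee]
  refine ⟨fun t htT h => ((comm_tri bas ht htT h).2.1).symm, comm_w bas ht ht.cxy.symm rfl ht.cyw⟩

theorem mem_c : c ∈ ee (a * b * c) := by
  have := finite
  rw [mem_ee]
  refine ⟨fun t htT h => ((comm_tri bas ht htT h).2.2).symm, comm_w bas ht ht.cxw.symm ht.cyw.symm rfl⟩

theorem no_comp_three (K : Subgroup Spor.Fi22) : ¬ IsComponentOf K (centralizer ({a * b * c} : Set Spor.Fi22)) := by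
  intro hK
  have := finite
  have : Fact (Nat.Prime 2) := ⟨Nat.prime_two⟩
  have h1 := comp_comm_solvable hK (R := ee (a * b * c)) inf_le_right ee_normal (ee_solvable ht)
  have ka : ∀ k ∈ K, k * a = a * k := fun k hk => h1 k hk a (mem_a ht)
  have kb : ∀ k ∈ K, k * b = b * k := fun k hk => h1 k hk b (mem_b ht)
  have kc : ∀ k ∈ K, k * c = c * k := fun k hk => h1 k hk c (mem_c ht)
  obtain ⟨R, F⟩ := facts ht.mx ht.my ht.xy ht.cxy
  -- `K` is a component of `C(a, b, c)`
  let D : Subgroup Spor.Fi22 := centralizer ({a, b} : Set Spor.Fi22) ⊓ centralizer ({c} : Set Spor.Fi22)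
  have hDC : D ≤ centralizer ({a * b * c} : Set Spor.Fi22) := by
    rintro x ⟨hx1, hx2⟩
    obtain ⟨x1, x2⟩ := mem_pair.1 hx1
    exact mem_centralizer_singleton_iff.2 (comm_w bas ht x1 x2 (mem_centralizer_singleton_iff.1 hx2))
  have hKD : K ≤ D := fun k hk => ⟨mem_pair.2 ⟨ka k hk, kb k hk⟩, mem_centralizer_singleton_iff.2 (kc k hk)⟩
  have hK' := isComponentOf_of_le hK hDC hKD
  -- `K` centralizes `C_R(c)`
  have hRD : R ⊓ centralizer ({c} : Set Spor.Fi22) ≤ D := fun x hx => ⟨F.R_le hx.1, hx.2⟩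
  have hRn : ∀ x ∈ D, ∀ r ∈ R ⊓ centralizer ({c} : Set Spor.Fi22), x * r * x⁻¹ ∈
      R ⊓ centralizer ({c} : Set Spor.Fi22) := by
    rintro x ⟨hx1, hx2⟩ r ⟨hr1, hr2⟩
    obtain ⟨x1, x2⟩ := mem_pair.1 hx1
    exact ⟨F.R_normal x (comm_mul x1 x2) r hr1,
      (centralizer ({c} : Set Spor.Fi22)).mul_mem ((centralizer ({c} : Set Spor.Fi22)).mul_mem hx2 hr2)
        ((centralizer ({c} : Set Spor.Fi22)).inv_mem hx2)⟩
  have hRs : Group.IsSolvable ↥(R ⊓ centralizer ({c} : Set Spor.Fi22) : Subgroup Spor.Fi22) := by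
    have hp : IsPGroup 2 ↥(R ⊓ centralizer ({c} : Set Spor.Fi22) : Subgroup Spor.Fi22) :=
      F.R_two.to_le inf_le_left
    have hnil := hp.isNilpotent
    infer_instance
  have h2 := comp_comm_solvable hK' hRD hRn hRs
  -- the elements of odd order of `K` are trivial
  have cab : c * (a * b) = a * b * c := comm_mul ht.cxw.symm ht.cyw.symm
  have hodd : ∀ k ∈ K, Odd (orderOf k) → k = 1 := by
    intro k hk ho
    have key : zpowers k ≤ centralizer (R : Set Spor.Fi22) := by
      refine Lib.ThompsonPQ.thompson_p_times_q 2 (zpowers c) (zpowers k) R ?_ ?_ F.R_two ?_ ?_ ?_ ?_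
      · refine IsPGroup.of_card (n := 1) ?_
        rw [Nat.card_zpowers, pow_one]
        exact orderOf_eq_prime (by rw [pow_two]; exact bas.sq ht.mw) (bas.ne_one ht.mw)
      · rw [Nat.card_zpowers]
        exact Nat.coprime_two_right.2 ho
      · rw [zpowers_le, mem_centralizer_iff]
        rintro _ ⟨n, rfl⟩
        exact (Commute.zpow_left (show Commute k c from kc k hk) n).eq
      · rw [zpowers_le, mem_normalizer_iff]
        intro x
        constructor
        · exact fun hx => F.R_normal c cab x hx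
        · intro hx
          have h3 := F.R_normal c⁻¹ (by
            rw [inv_mul_eq_iff_eq_mul, ← mul_assoc, cab, mul_assoc, mul_inv_cancel, mul_one]) _ hx
          have e : c⁻¹ * (c * x * c⁻¹) * c⁻¹⁻¹ = x := by group
          rwa [e] at h3
      · rw [zpowers_le, mem_normalizer_iff]
        have kab : k * (a * b) = a * b * k := comm_mul (ka k hk) (kb k hk)
        intro x
        constructor
        · exact fun hx => F.R_normal k kab x hx
        · intro hx
          have h3 := F.R_normal k⁻¹ (by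
            rw [inv_mul_eq_iff_eq_mul, ← mul_assoc, kab, mul_assoc, mul_inv_cancel, mul_one]) _ hx
          have e : k⁻¹ * (k * x * k⁻¹) * k⁻¹⁻¹ = x := by group
          rwa [e] at h3
      · rintro x ⟨hx1, hx2⟩
        have hxc : x ∈ centralizer ({c} : Set Spor.Fi22) := by
          rw [mem_centralizer_singleton_iff]
          exact ((mem_centralizer_iff.1 hx2) c (mem_zpowers c)).symm
        have h3 := h2 k hk x ⟨hx1, hxc⟩
        rw [mem_centralizer_iff]
        rintro _ ⟨n, rfl⟩
        exact (Commute.zpow_left (show Commute k x from h3) n).eq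
    have h3 : ∀ y ∈ R, k * y = y * k := fun y hy => (mem_centralizer_iff.1 (key (mem_zpowers k)) y hy).symm
    have h4 : k * k = 1 := by
      have hab2 : (a * b) * (a * b) = 1 := by
        calc (a * b) * (a * b) = a * (b * a) * b := by group
          _ = (a * a) * (b * b) := by rw [← ht.cxy]; group
          _ = 1 := by rw [bas.sq ht.mx, bas.sq ht.my, one_mul]
      rcases F.R_center k h3 with rfl | rfl | rfl | rfl
      · exact one_mul _
      · exact bas.sq ht.mx
      · exact bas.sq ht.my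
      · exact hab2
    have h5 : orderOf k ∣ 2 := orderOf_dvd_of_pow_eq_one (by rw [pow_two]; exact h4)
    have h6 : orderOf k = 1 := Nat.eq_one_of_dvd_coprimes ho.coprime_two_left h5 dvd_rfl
    exact orderOf_eq_one_iff.1 h6
  -- `K` is a 2-group
  have hKp : IsPGroup 2 ↥K := by
    intro x
    obtain ⟨k, m, hm, hkm⟩ := Nat.exists_eq_pow_mul_and_not_dvd (orderOf_pos (x : Spor.Fi22)).ne' 2 (by norm_num)
    refine ⟨k, Subtype.ext ?_⟩
    refine hodd ((x : Spor.Fi22) ^ 2 ^ k) (K.pow_mem x.2 _) ?_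
    have ho : orderOf ((x : Spor.Fi22) ^ 2 ^ k) = m := by
      rw [orderOf_pow, hkm, Nat.gcd_eq_right (Dvd.intro _ rfl)]
      exact Nat.mul_div_cancel_left m (by positivity)
    rw [ho]
    exact Nat.odd_iff.2 (by omega)
  have hq' : IsQuasisimple ↥K := SignalizersComponents.Components.isQuasisimple_of_mulEquiv
    (subgroupOfEquivOfLe hK.1) hK.2.2
  apply SignalizersComponents.Components.quasisimple_not_isSolvable hq'
  have hnil := hKp.isNilpotent
  infer_instance

end three

/-- **The row `Fi22`.** -/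
theorem compC2 : CompC2 Spor.Fi22 := by
  have := finite
  have key : ∀ t : Spor.Fi22, orderOf t = 2 → At Spor.Fi22 t := by
    intro t ht
    have tt : t * t = 1 := by rw [← pow_two, ← ht, pow_orderOf_eq_one]
    have t1 : t ≠ 1 := by
      rintro rfl
      rw [orderOf_one] at ht
      omega
    rcases inv_cases tt t1 with h | ⟨a, ha, b, hb, hab, cab, rfl⟩ | ⟨a, b, c, h, rfl⟩
    · exact at_one h
    · exact at_two ha hb hab cab
    · exact ⟨core ht, fun K hK => absurd hK (no_comp_three h K)⟩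
  exact ⟨fun t ht => (key t ht).bal, fun t ht => (key t ht).comp⟩

end Cfsg.Agent.CTwoTab.Fi22

private theorem dce_9f56f164da16 : _root_.True := by
  try have : _root_.True := by simp only [_root_.Cfsg.Agent.CTwoTab.Fi22.ee.eq_1]
  exact _root_.True.intro
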