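import Cfsg.Agent.CTwoTab.Exc
import Cfsg.Agent.CTwoTab.Restr
import Cfsg.Agent.Lib.ComponentSolvable
import Cfsg.Agent.LargeExtra.Base
import Cfsg.Agent.MonsterU.Final_m3
import Cfsg.Agent.MonsterU.ModelChart
import Cfsg.Agent.FastGrp
import Cfsg.Agent.Prune
set_option linter.all false
prune_inst 0x7f00000000000000000000000000000000000000000000000000000000000000000000000000000000000000000000000000000000000000000000000000000000000000000000000000000000000000003fffffffffffffffffffffffffffbeffbdffffffff
open scoped Cfsg.Agent.FastGrp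

/-!
# The row of the Monster of the table "components of involution centralizers are `C₂`-groups", from a model (helper13)

* `at_large` : the condition at an involution with a large extraspecial (or generalised) subgroup;
* `at_cover` : the condition at an involution `t` such that `C(t)` is a nonsplit double cover of the Baby Monster;
* `rank_three_of_large` : a large extraspecial subgroup of order `> 2 ^ 20` gives 2-rank at least 3;
* `compC2_of`, `compCard_of`, `rank_three_of` : the group of the model satisfies `CompC2`, the orders of the components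
  of the involution centralizers, and its 2-rank is at least 3.
-/

set_option autoImplicit false

open scoped commutatorElement

namespace Cfsg.Agent.CTwoTab.MonsterOf

open Subgroup Cfsg Cfsg.Agent.CTwoTab Cfsg.Agent.MonsterX.Model Cfsg.Agent.MonsterX.MainPack
  Cfsg.Agent.MonsterX.MainSimple Cfsg.Agent.MonsterX.MainBasic Cfsg.Agent.MonsterU.Assembly

universe u

/-- The condition at `z` when `C(z)` has a large subgroup. -/
theorem at_large {G : Type u} [Group G] [Finite G] {Q : Subgroup G} {z : G}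
    (h : Cfsg.Agent.Co2Type.Quad.Large Q z) : At G z :=
  At.of_pGroup (R := Q) (fun x hx => mem_centralizer_singleton_iff.2 (h.comm_z x hx))
    (fun c hc r hr => h.conj_mem c (mem_centralizer_singleton_iff.1 hc) r hr)
    (Cfsg.Agent.LargeExtra.Base.isPGroup h)
    (fun c hc hr => h.self c (mem_centralizer_singleton_iff.1 hc) hr)

/-- no component when `C(z)` has a large subgroup -/
theorem not_comp_large {G : Type u} [Group G] [Finite G] {Q : Subgroup G} {z : G}
    (h : Cfsg.Agent.Co2Type.Quad.Large Q z) (K : Subgroup G) : ¬ IsComponentOf K (centralizer ({z} : Set G)) := by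
  have : Fact (Nat.Prime 2) := ⟨Nat.prime_two⟩
  exact no_comp_of_pGroup (p := 2) (R := Q) (fun x hx => mem_centralizer_singleton_iff.2 (h.comm_z x hx))
    (fun c hc r hr => h.conj_mem c (mem_centralizer_singleton_iff.1 hc) r hr)
    (Cfsg.Agent.LargeExtra.Base.isPGroup h)
    (fun c hc hr => h.self c (mem_centralizer_singleton_iff.1 hc) hr) K

/-- A nonsplit double cover of a noncommutative simple group is perfect. -/
theorem perf_of {H K : Type*} [Group H] [Finite H] [Group K] [IsSimpleGroup K]
    (hK : ∃ a b : K, a * b ≠ b * a) (h : IsNonsplitDoubleCover H K) : commutator H = ⊤ := by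
  obtain ⟨hZ, ⟨e⟩, hns⟩ := h
  -- the image of the commutator subgroup in the quotient is everything
  have hmap : (commutator H).map (QuotientGroup.mk' (center H)) = ⊤ := by
    have hN : ((commutator H).map (QuotientGroup.mk' (center H))).Normal :=
      Subgroup.Normal.map inferInstance _ (QuotientGroup.mk'_surjective _)
    have hs : IsSimpleGroup (H ⧸ center H) := by
      have : Nontrivial (H ⧸ center H) := e.toEquiv.nontrivial
      exact IsSimpleGroup.isSimpleGroup_of_surjective e.symm.toMonoidHom e.symm.surjective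
    rcases hs.eq_bot_or_eq_top_of_normal _ hN with h1 | h1
    · exfalso
      obtain ⟨a, b, hab⟩ := hK
      obtain ⟨x, hx⟩ := QuotientGroup.mk'_surjective (center H) (e.symm a)
      obtain ⟨y, hy⟩ := QuotientGroup.mk'_surjective (center H) (e.symm b)
      have h2 : QuotientGroup.mk' (center H) ⁅x, y⁆ = 1 := by
        rw [← mem_bot, ← h1]
        exact mem_map_of_mem _ (commutator_mem_commutator (mem_top x) (mem_top y))
      rw [map_commutatorElement, hx, hy, commutatorElement_eq_one_iff_mul_comm, ← map_mul, ← map_mul] at h2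
      exact hab (e.symm.injective h2)
    · exact h1
  have hsup : commutator H ⊔ center H = ⊤ := by
    rw [eq_top_iff]
    intro x _
    have hx : QuotientGroup.mk' (center H) x ∈ (commutator H).map (QuotientGroup.mk' (center H)) := by
      rw [hmap]; exact mem_top _
    obtain ⟨y, hy, hxy⟩ := hx
    have h3 : y⁻¹ * x ∈ center H := (QuotientGroup.eq (s := center H)).1 hxy
    have : x = y * (y⁻¹ * x) := by group
    rw [this]
    exact mul_mem (mem_sup_left hy) (mem_sup_right h3)
  by_contra hne
  apply hns (commutator H)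
  rw [isComplement'_comm]
  refine isComplement'_of_disjoint_and_mul_eq_univ ?_ ?_
  · rw [disjoint_iff]
    by_contra hb
    apply hne
    have h4 : center H ≤ commutator H := by
      have h5 : Nat.card ↥(commutator H ⊓ center H) ∣ Nat.card (center H) :=
        card_dvd_of_le inf_le_right
      rw [hZ] at h5
      have h6 : Nat.card ↥(commutator H ⊓ center H) ≠ 1 := fun h7 => hb (card_eq_one.1 h7)
      have h8 : Nat.card ↥(commutator H ⊓ center H) = 2 := by
        rcases (Nat.dvd_prime Nat.prime_two).1 h5 with h9 | h9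
        · exact absurd h9 h6
        · exact h9
      have h9 : commutator H ⊓ center H = center H :=
        eq_of_le_of_card_ge inf_le_right (by rw [h8, hZ])
      exact inf_eq_right.1 h9
    rw [← hsup, sup_eq_left.2 h4]
  · rw [← normal_mul, hsup]; rfl

theorem noncomm {K : Type*} [Group K] (h : IsB K) : ∃ a b : K, a * b ≠ b * a := by
  by_contra hcon
  push Not at hcon
  obtain ⟨h1, h2⟩ := h
  have : IsMulCommutative K := ⟨⟨hcon⟩⟩
  have hp : (Nat.card K).Prime := Group.is_simple_iff_prime_card.1 h1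
  rw [h2] at hp
  exact absurd hp (by norm_num)

/-- the `p'`-core of a quasisimple group whose centre is a `p`-group -/
theorem core_eq_bot {H : Type u} [Group H] [Finite H] {p : ℕ} (hp : p.Prime) (hH : IsQuasisimple H)
    (hZ : IsPGroup p ↥(center H)) (hd : p ∣ Nat.card H) : pPrimeCore p H = ⊥ := by
  rw [eq_bot_iff]
  refine sSup_le ?_
  rintro N ⟨hN, hc⟩
  rcases Cfsg.Agent.Lib.ComponentSolvable.quasisimple_normal_cases hH hN with h | h
  · exfalso
    rw [h, Subgroup.card_top] at hc
    exact hp.one_lt.ne' (Nat.eq_one_of_dvd_coprimes hc hd dvd_rfl)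
  · have : Fact p.Prime := ⟨hp⟩
    have h1 : IsPGroup p ↥N := hZ.to_le h
    obtain ⟨n, hn⟩ := IsPGroup.iff_card.1 h1
    rw [hn] at hc
    have h2 : Nat.card ↥N = 1 := by
      rcases Nat.eq_zero_or_pos n with h0 | h0
      · rw [hn, h0, pow_zero]
      · exfalso
        exact hp.one_lt.ne' (Nat.eq_one_of_dvd_coprimes hc (dvd_pow_self p h0.ne') dvd_rfl)
    rw [Subgroup.card_eq_one.1 h2]

/-- the orders, for a nonsplit double cover of the Baby Monster -/
theorem card_cover {H : Type u} [Group H] [Finite H] (hB : IsB Spor.BabyMonster)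
    (h : IsNonsplitDoubleCover H Spor.BabyMonster) :
    Nat.card H = 8309562962452852382355161088000000 ∧ Nat.card (H ⧸ center H) = 4154781481226426191177580544000000 := by
  obtain ⟨hZ, ⟨e⟩, hns⟩ := h
  have hq : Nat.card (H ⧸ center H) = 4154781481226426191177580544000000 := by
    rw [Nat.card_congr e.toEquiv, hB.2]
  refine ⟨?_, hq⟩
  rw [← (center H).card_mul_index, hZ, Subgroup.index_eq_card, hq]

/-- `Good` for a nonsplit double cover of the Baby Monster -/
theorem good_cover {H : Type u} [Group H] [Finite H] (hB : IsB Spor.BabyMonster)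
    (h : IsNonsplitDoubleCover H Spor.BabyMonster) : Good H := by
  obtain ⟨hc, hq⟩ := card_cover hB h
  obtain ⟨hZ, ⟨e⟩, hns⟩ := h
  refine ⟨?_, ?_⟩
  · refine Or.inr (Or.inr (Or.inl ⟨rfl, ?_⟩))
    have hb : Spor.IsoB (H ⧸ center H) := ⟨e⟩
    unfold IsCTwoListed
    tauto
  · refine not_exc_of_card hc 202547114678 (by norm_num) (by norm_num) (by norm_num) ?_ (by norm_num) (by norm_num)
      (by norm_num)
    rw [hq]; norm_num

/-- a nonsplit double cover of the Baby Monster is quasisimple -/
theorem quasisimple_cover {H : Type u} [Group H] [Finite H] (hB : IsB Spor.BabyMonster)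
    (h : IsNonsplitDoubleCover H Spor.BabyMonster) : IsQuasisimple H := by
  have hs := hB.1
  have hp := perf_of (noncomm hB) h
  obtain ⟨-, ⟨e⟩, -⟩ := h
  exact ⟨Group.isPerfect_def.2 hp, e.isSimpleGroup⟩

/-- the orders of the components of `C(t)` when `C(t)` is a nonsplit double cover of the Baby Monster -/
theorem card_comp_cover {G : Type u} [Group G] [Finite G] {t : G} (hB : IsB Spor.BabyMonster)
    (h : IsNonsplitDoubleCover ↥(centralizer ({t} : Set G)) Spor.BabyMonster) (K : Subgroup G)
    (hK : IsComponentOf K (centralizer ({t} : Set G))) :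
    Nat.card ↥K = 8309562962452852382355161088000000 ∧
      Nat.card (↥K ⧸ center ↥K) = 4154781481226426191177580544000000 := by
  have hKN : K = centralizer ({t} : Set G) :=
    comp_eq (N := centralizer ({t} : Set G)) (quasisimple_cover hB h) le_rfl (fun P hP _ => hP) hK
  subst hKN
  exact card_cover hB h

/-- The condition at `t` when `C(t)` is a nonsplit double cover of the Baby Monster. -/
theorem at_cover {G : Type u} [Group G] [Finite G] {t : G} (hB : IsB Spor.BabyMonster)
    (h : IsNonsplitDoubleCover ↥(centralizer ({t} : Set G)) Spor.BabyMonster) : At G t := by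
  have hq := quasisimple_cover hB h
  refine At.of_comp (N := centralizer ({t} : Set G)) ?_ hq le_rfl (fun P hP _ => hP) (good_cover hB h)
  rw [centralizerPPrimeCore_eq_bot_iff]
  refine core_eq_bot Nat.prime_two hq (IsPGroup.of_card (n := 1) (by rw [h.1, pow_one])) ?_
  rw [← h.1]
  exact (center _).card_subgroup_dvd_card

/-- A large extraspecial subgroup of order `> 2 ^ 20` has 2-rank at least 3. -/
theorem rank_three_of_large {G : Type u} [Group G] [Finite G] {Q : Subgroup G} {z : G}
    (h : Cfsg.Agent.Co2Type.Quad.Large Q z) (hQ : 2 ^ 20 < Nat.card Q) : PRankAtLeast 2 3 G := by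
  classical
  -- a maximal abelian subgroup of `Q`
  let S : Set (Subgroup G) := {A | A ≤ Q ∧ A ≤ centralizer (A : Set G)}
  have hS : S.Nonempty := ⟨⊥, bot_le, bot_le⟩
  obtain ⟨A, hA, hmax⟩ := (Set.toFinite S).exists_maximalFor (fun A : Subgroup G => Nat.card A) S hS
  obtain ⟨hAQ, hAc⟩ := hA
  have hAc' : ∀ a ∈ A, ∀ b ∈ A, a * b = b * a := fun a ha b hb =>
    (mem_centralizer_iff.1 (hAc ha) b hb).symm
  have hself : Q ⊓ centralizer (A : Set G) ≤ A := by
    rintro x ⟨hx, hxa⟩
    have hle : A ≤ A ⊔ zpowers x := le_sup_left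
    have hmem : A ⊔ zpowers x ∈ S := by
      refine ⟨sup_le hAQ (zpowers_le.2 hx), ?_⟩
      have h1 : zpowers x ≤ centralizer (A : Set G) := zpowers_le.2 hxa
      have h2 : A ≤ centralizer (zpowers x : Set G) := le_centralizer_iff.1 h1
      have h3 : zpowers x ≤ centralizer (zpowers x : Set G) := by
        rw [zpowers_le, mem_centralizer_iff]
        rintro _ ⟨n, rfl⟩
        exact (Commute.zpow_self x n)
      refine sup_le ?_ ?_
      · rw [le_centralizer_iff]
        exact sup_le hAc h1
      · rw [le_centralizer_iff]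
        exact sup_le h2 h3
    have h1 := hmax hmem (Subgroup.card_le_of_le hle)
    have h2 : A = A ⊔ zpowers x := eq_of_le_of_card_ge hle h1
    rw [h2]
    exact mem_sup_right (mem_zpowers x)
  -- `z` is in `A`
  have hzA : z ∈ A := hself ⟨h.z_mem, mem_centralizer_iff.2 fun a ha => h.comm_z a (hAQ ha)⟩
  -- the commutation pattern
  let f : ↥Q → (↥A → Bool) := fun x a => decide ((x : G) * a = a * x)
  have hf : ∀ x y : ↥Q, f x = f y → (x : G)⁻¹ * y ∈ A := by
    intro x y hxy
    refine hself ⟨Q.mul_mem (Q.inv_mem x.2) y.2, mem_centralizer_iff.2 fun a ha => ?_⟩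
    have h1 : ((x : G) * a = a * x) ↔ ((y : G) * a = a * y) := by
      have := congrFun hxy ⟨a, ha⟩
      simpa [f] using this
    have hza : a * z = z * a := h.comm_z a (hAQ ha)
    by_cases hx : (x : G) * a = a * x
    · have hy := h1.1 hx
      have hx' : a * (x : G)⁻¹ = (x : G)⁻¹ * a := by
        rw [eq_inv_mul_iff_mul_eq, ← mul_assoc, hx, mul_assoc, mul_inv_cancel, mul_one]
      calc a * ((x : G)⁻¹ * y) = (a * (x : G)⁻¹) * y := by rw [mul_assoc]
        _ = (x : G)⁻¹ * (a * y) := by rw [hx', mul_assoc]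
        _ = (x : G)⁻¹ * y * a := by rw [← hy, mul_assoc]
    · have hy : ¬ (y : G) * a = a * y := fun h2 => hx (h1.2 h2)
      have hx2 := (h.comm x x.2 a (hAQ ha)).resolve_left hx
      have hy2 := (h.comm y y.2 a (hAQ ha)).resolve_left hy
      -- `a * x⁻¹ = x⁻¹ * a * z`
      have hxz : (x : G) * z = z * x := h.comm_z x x.2
      have hyz : (y : G) * z = z * y := h.comm_z y y.2
      have hx' : a * (x : G)⁻¹ = (x : G)⁻¹ * a * z := by
        rw [mul_assoc, eq_inv_mul_iff_mul_eq, ← mul_assoc, hx2, mul_assoc, mul_assoc]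
        have : z * (x : G)⁻¹ = (x : G)⁻¹ * z := by
          rw [eq_inv_mul_iff_mul_eq, ← mul_assoc, hxz, mul_assoc, mul_inv_cancel, mul_one]
        rw [this, ← mul_assoc (x : G), mul_inv_cancel, one_mul]
      calc a * ((x : G)⁻¹ * y) = (a * (x : G)⁻¹) * y := by rw [mul_assoc]
        _ = (x : G)⁻¹ * (a * y * z) := by rw [hx', mul_assoc, mul_assoc, mul_assoc, hyz]
        _ = (x : G)⁻¹ * y * a := by rw [← hy2, mul_assoc]
  have hcard : Nat.card Q ≤ 2 ^ Nat.card A * Nat.card A := by
    let g : ↥Q → (↥A → Bool) × ↥A := fun x =>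
      (f x, ⟨((Function.invFun f (f x) : ↥Q) : G)⁻¹ * x, hf _ _ (Function.invFun_eq ⟨x, rfl⟩)⟩)
    have hg : Function.Injective g := by
      intro x y hxy
      have h1 : f x = f y := congrArg Prod.fst hxy
      have h2 : ((Function.invFun f (f x) : ↥Q) : G)⁻¹ * x = ((Function.invFun f (f y) : ↥Q) : G)⁻¹ * y :=
        congrArg (fun p => ((p.2 : ↥A) : G)) hxy
      rw [h1] at h2
      exact Subtype.ext (mul_left_cancel h2)
    have h1 := Nat.card_le_card_of_injective g hg
    rw [Nat.card_prod, Nat.card_fun] at h1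
    simpa using h1
  have hA16 : 16 < Nat.card A := by
    by_contra hcon
    push Not at hcon
    have : 2 ^ Nat.card A * Nat.card A ≤ 2 ^ 16 * 16 :=
      Nat.mul_le_mul (Nat.pow_le_pow_right (by norm_num) hcon) hcon
    have h2 : (2 : ℕ) ^ 16 * 16 = 2 ^ 20 := by norm_num
    omega
  -- the involutions of `A`
  let B : Subgroup G :=
    { carrier := {x | x ∈ A ∧ x * x = 1}
      one_mem' := ⟨A.one_mem, by rw [mul_one]⟩
      mul_mem' := by
        rintro a b ⟨ha, ha2⟩ ⟨hb, hb2⟩
        refine ⟨A.mul_mem ha hb, ?_⟩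
        rw [show a * b * (a * b) = a * (b * a) * b by group, ← hAc' a ha b hb,
          show a * (a * b) * b = (a * a) * (b * b) by group, ha2, hb2, mul_one]
      inv_mem' := by
        rintro a ⟨ha, ha2⟩
        exact ⟨A.inv_mem ha, by rw [← mul_inv_rev, ha2, inv_one]⟩ }
  let f2 : ↥A → Bool := fun x => decide ((x : G) * x = 1)
  have hf2 : ∀ x y : ↥A, f2 x = f2 y → (x : G)⁻¹ * y ∈ B := by
    intro x y hxy
    refine ⟨A.mul_mem (A.inv_mem x.2) y.2, ?_⟩
    have hc : (y : G) * (x : G)⁻¹ = (x : G)⁻¹ * y := hAc' y y.2 _ (A.inv_mem x.2)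
    have e1 : (x : G)⁻¹ * y * ((x : G)⁻¹ * y) = ((x : G) * x)⁻¹ * ((y : G) * y) := by
      rw [show (x : G)⁻¹ * y * ((x : G)⁻¹ * y) = (x : G)⁻¹ * (y * (x : G)⁻¹) * y by group, hc]
      group
    have h1 : ((x : G) * x = 1) ↔ ((y : G) * y = 1) := by simpa [f2] using hxy
    rw [e1]
    by_cases hx : (x : G) * x = 1
    · rw [hx, h1.1 hx, inv_one, mul_one]
    · have hy : ¬ (y : G) * y = 1 := fun h2 => hx (h1.2 h2)
      rw [(h.sq x (hAQ x.2)).resolve_left hx, (h.sq y (hAQ y.2)).resolve_left hy, inv_mul_cancel]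
  have hcard2 : Nat.card A ≤ 2 * Nat.card B := by
    let g : ↥A → Bool × ↥B := fun x =>
      (f2 x, ⟨((Function.invFun f2 (f2 x) : ↥A) : G)⁻¹ * x, hf2 _ _ (Function.invFun_eq ⟨x, rfl⟩)⟩)
    have hg : Function.Injective g := by
      intro x y hxy
      have h1 : f2 x = f2 y := congrArg Prod.fst hxy
      have h2 : ((Function.invFun f2 (f2 x) : ↥A) : G)⁻¹ * x = ((Function.invFun f2 (f2 y) : ↥A) : G)⁻¹ * y :=
        congrArg (fun p => ((p.2 : ↥B) : G)) hxy
      rw [h1] at h2
      exact Subtype.ext (mul_left_cancel h2)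
    have h1 := Nat.card_le_card_of_injective g hg
    rw [Nat.card_prod] at h1
    simpa using h1
  refine ⟨B, ⟨⟨?_⟩⟩, ?_, ?_⟩
  · rintro ⟨a, ha⟩ ⟨b, hb⟩
    exact Subtype.ext (hAc' a ha.1 b hb.1)
  · rintro a ⟨-, ha⟩
    rw [pow_two, ha]
  · have : (2 : ℕ) ^ 3 = 8 := by norm_num
    omega

/-- it is enough to look at representatives of the classes of involutions -/
theorem compCard_mk_of_classes {S : ℕ → ℕ → Prop} {X : Type u} [Group X] (P : X → Prop)
    (h : ∀ t : X, orderOf t = 2 → ∃ g s : X, P s ∧ t = g * s * g⁻¹)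
    (hP : ∀ s : X, P s → ∀ K : Subgroup X, IsComponentOf K (centralizer ({s} : Set X)) →
      S (Nat.card ↥K) (Nat.card (↥K ⧸ center ↥K))) : CompCard S X := by
  intro t ht K hK
  obtain ⟨g, s, hs, rfl⟩ := h t ht
  have h1 := isComponentOf_map (MulAut.conj g⁻¹) hK
  rw [map_centralizer_singleton] at h1
  have e : (MulAut.conj g⁻¹) (g * s * g⁻¹) = s := by
    rw [MulAut.conj_apply]; group
  rw [e] at h1
  have h2 := hP s hs _ h1
  rwa [← Nat.card_congr (subMap (MulAut.conj g⁻¹) K).toEquiv,
    ← Nat.card_congr (quoEquiv (subMap (MulAut.conj g⁻¹) K)).toEquiv] at h2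

section model

variable {W : Type} [AddCommGroup W] [Module ℚ W] {M : MData W} {K₀ : Type} [Group K₀]

/-- `C_M(t)` is a nonsplit double cover of `Spor.BabyMonster`. -/
theorem cover_t (A : All M K₀) {y : ℕ → M.G} (hP : Cfsg.Agent.Bimonster.PRel y) (hne : y 0 ≠ y 1)
    (hy : ∃ g : M.G, g * tG A.hG A.hR * g⁻¹ = y 10) (hB : Cfsg.IsB Cfsg.Spor.BabyMonster) :
    Cfsg.IsNonsplitDoubleCover (centralizer ({tG A.hG A.hR} : Set M.G)) Cfsg.Spor.BabyMonster := by
  have := G_finite A.hO
  have h := babyHyp A.hG A.hR A.hL A.hO A.hT A.hB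
  obtain ⟨g, hg⟩ := hy
  -- conjugate the nodes
  have hP' : Cfsg.Agent.Bimonster.PRel (fun i => (MulAut.conj g⁻¹).toMonoidHom (y i)) := hP.map _
  have h10 : (MulAut.conj g⁻¹).toMonoidHom (y 10) = tG A.hG A.hR := by
    show g⁻¹ * y 10 * g⁻¹⁻¹ = _
    rw [← hg]; group
  have hsq : h.tH ∈ Subgroup.closure
      {x : Subgroup.centralizer ({tG A.hG A.hR} : Set M.G) | ∃ y, x = y * y} := by
    obtain ⟨a, ha, hat, c, hc, hct, e⟩ := A.hB.sq
    let a' : Subgroup.centralizer ({tG A.hG A.hR} : Set M.G) :=
      ⟨⟨a, C_le ha⟩, (mem_cent_t_iff A.hG A.hR _).2 hat⟩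
    let c' : Subgroup.centralizer ({tG A.hG A.hR} : Set M.G) :=
      ⟨⟨c, C_le hc⟩, (mem_cent_t_iff A.hG A.hR _).2 hct⟩
    have e' : h.tH = a' * (c' * a' * c'⁻¹) := Subtype.ext (Subtype.ext e)
    rw [e']
    exact Cfsg.Agent.MonsterX.MonsterPack.mul_conj_mem_closure_sq a' c'
  exact cover_aux hP' h10 h hsq (card_cent_t A.hG A.hR A.hL A.hO A.hT) hB
    (fun e => hne ((MulAut.conj g⁻¹).injective e))

/-- **The group of the model satisfies `CompC2`.** -/
theorem compC2_of (A : All M K₀) {y : ℕ → M.G} (hP : Cfsg.Agent.Bimonster.PRel y) (hne : y 0 ≠ y 1)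
    (hy : ∃ g : M.G, g * tG A.hG A.hR * g⁻¹ = y 10) (hB : Cfsg.IsB Cfsg.Spor.BabyMonster) : CompC2 M.G := by
  have := G_finite A.hO
  have hz : At M.G (zG A.hG) :=
    at_large (Cfsg.Agent.MonsterU.ModelChart.large A.hG A.hR A.hL A.hO A.hT)
  have ht : At M.G (tG A.hG A.hR) := at_cover hB (cover_t A hP hne hy hB)
  refine CompC2.mk_of_classes (fun s => s = zG A.hG ∨ s = tG A.hG A.hR) ?_ ?_
  · intro u hu
    have hu1 : u ≠ 1 := by
      rintro rfl
      rw [orderOf_one] at hu
      exact absurd hu (by norm_num)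
    have huu : u * u = 1 := by rw [← pow_two, ← hu, pow_orderOf_eq_one]
    rcases A.classes u huu hu1 with ⟨g, hg⟩ | ⟨g, hg⟩
    · exact ⟨g, _, Or.inl rfl, hg.symm⟩
    · exact ⟨g, _, Or.inr rfl, hg.symm⟩
  · rintro s (rfl | rfl)
    · exact hz
    · exact ht

/-- The orders of the components of the involution centralizers. -/
theorem compCard_of (A : All M K₀) {y : ℕ → M.G} (hP : Cfsg.Agent.Bimonster.PRel y) (hne : y 0 ≠ y 1)
    (hy : ∃ g : M.G, g * tG A.hG A.hR * g⁻¹ = y 10) (hB : Cfsg.IsB Cfsg.Spor.BabyMonster) :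
    CompCard (fun n m => n = 8309562962452852382355161088000000 ∧ m = 4154781481226426191177580544000000) M.G := by
  have := G_finite A.hO
  refine compCard_mk_of_classes (fun s => s = zG A.hG ∨ s = tG A.hG A.hR) ?_ ?_
  · intro u hu
    have hu1 : u ≠ 1 := by
      rintro rfl
      rw [orderOf_one] at hu
      exact absurd hu (by norm_num)
    have huu : u * u = 1 := by rw [← pow_two, ← hu, pow_orderOf_eq_one]
    rcases A.classes u huu hu1 with ⟨g, hg⟩ | ⟨g, hg⟩
    · exact ⟨g, _, Or.inl rfl, hg.symm⟩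
    · exact ⟨g, _, Or.inr rfl, hg.symm⟩
  · rintro s (rfl | rfl) K hK
    · exact absurd hK (not_comp_large (Cfsg.Agent.MonsterU.ModelChart.large A.hG A.hR A.hL A.hO A.hT) K)
    · exact card_comp_cover hB (cover_t A hP hne hy hB) K hK

/-- The 2-rank of the group of the model is at least 3. -/
theorem rank_three_of (A : All M K₀) : PRankAtLeast 2 3 M.G := by
  have := G_finite A.hO
  refine rank_three_of_large (Cfsg.Agent.MonsterU.ModelChart.large A.hG A.hR A.hL A.hO A.hT) ?_
  have h1 : Nat.card (M.Q.subgroupOf M.G) = 2 ^ 25 := by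
    rw [← A.hG.Q_card]
    exact Nat.card_congr (Subgroup.subgroupOfEquivOfLe (A.hG.Q_le.trans C_le)).toEquiv
  rw [h1]
  norm_num

end model

end Cfsg.Agent.CTwoTab.MonsterOf
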