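import Cfsg.Agent.CTwoTab.Good
set_option linter.all false

/-!
# The core of `C(t)` from the form of the sheets (helper22)
-/

set_option autoImplicit false

namespace Cfsg.Agent.CTwoTab

open Subgroup Cfsg

universe u v

/-- `O(C(t)) = 1` from the form `Sheet.bal`. -/
theorem bal_of {X : Type u} [Group X] [Finite X] {t : X}
    (h : ∀ I : Subgroup X, (∀ i ∈ I, i * t = t * i) → (∀ c : X, c * t = t * c → ∀ i ∈ I, c * i * c⁻¹ ∈ I) →
      Odd (Nat.card ↥I) → I = ⊥) : centralizerPPrimeCore 2 t = ⊥ := by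
  have hN : (pPrimeCore 2 ↥(centralizer ({t} : Set X))).Normal := Lib.Cores.pPrimeCore_normal 2
  apply h
  · rintro _ ⟨i, -, rfl⟩
    exact mem_centralizer_singleton_iff.1 i.2
  · rintro c hc _ ⟨i, hi, rfl⟩
    exact ⟨_, hN.conj_mem i hi ⟨c, mem_centralizer_singleton_iff.2 hc⟩, rfl⟩
  · have h1 : Nat.card ↥(centralizerPPrimeCore 2 t) = Nat.card ↥(pPrimeCore 2 ↥(centralizer ({t} : Set X))) :=
      (Nat.card_congr (equivMapOfInjective _ _ (Subgroup.subtype_injective _)).toEquiv).symm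
    rw [h1, ← Nat.not_even_iff_odd, even_iff_two_dvd]
    intro h2
    have h3 : (Nat.card ↥(pPrimeCore 2 ↥(centralizer ({t} : Set X)))).Coprime 2 := Lib.Cores.pPrimeCore_coprime 2
    have h4 := Nat.dvd_gcd h2 (dvd_refl 2)
    rw [h3] at h4
    omega

/-- `P` contains representatives of the classes -/
theorem CompC2.mk_of_isConj {X : Type u} [Group X] (P : X → Prop)
    (h : ∀ t : X, t * t = 1 → t ≠ 1 → ∃ s : X, P s ∧ IsConj s t)
    (hP : ∀ s : X, P s → At X s) : CompC2 X := by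
  refine CompC2.mk_of_classes P (fun t ht => ?_) hP
  have h1 : t * t = 1 := by rw [← pow_two, ← ht, pow_orderOf_eq_one]
  have h2 : t ≠ 1 := by
    rintro rfl
    rw [orderOf_one] at ht
    omega
  obtain ⟨s, hs, hc⟩ := h t h1 h2
  obtain ⟨g, hg⟩ := isConj_iff.1 hc
  exact ⟨g, s, hs, hg.symm⟩

/-- **The core** : a quasisimple normal subgroup `N` of even order whose centralizer in `C(t)` is a 2-group. -/
theorem core_of_quasi {X : Type u} [Group X] [Finite X] {t : X} {N : Subgroup X} (hN : IsQuasisimple ↥N)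
    (h2 : 2 ∣ Nat.card ↥N) (hNC : N ≤ centralizer ({t} : Set X))
    (hn : ∀ c ∈ centralizer ({t} : Set X), ∀ x ∈ N, c * x * c⁻¹ ∈ N) {k : ℕ}
    (hV : ∀ x ∈ centralizer ({t} : Set X), (∀ n ∈ N, x * n = n * x) → x ^ 2 ^ k = 1) :
    centralizerPPrimeCore 2 t = ⊥ := by
  apply bal_of
  intro I hI hIn hodd
  have hIC : ∀ i ∈ I, i ∈ centralizer ({t} : Set X) := fun i hi => mem_centralizer_singleton_iff.2 (hI i hi)
  -- an element of `I` of order a power of 2 is trivial
  have key : ∀ x ∈ I, x ^ 2 ^ k = 1 → x = 1 := by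
    intro x hx hx2
    have h1 : orderOf x ∣ Nat.card ↥I := Subgroup.orderOf_dvd_natCard I hx
    have h3 : orderOf x ∣ 2 ^ k := orderOf_dvd_of_pow_eq_one hx2
    have h4 : (Nat.card ↥I).Coprime (2 ^ k) := Nat.Coprime.pow_right k hodd.coprime_two_right
    rw [← orderOf_eq_one_iff]
    exact Nat.eq_one_of_dvd_coprimes h4 h1 h3
  have hnor : (I.subgroupOf N).Normal :=
    ⟨fun x hx c => hIn c (mem_centralizer_singleton_iff.1 (hNC c.2)) x hx⟩
  have hIN : ∀ x ∈ I, x ∈ N → x = 1 := by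
    rcases SignalizersComponents.Components.quasisimple_normal hN (I.subgroupOf N) hnor with h | h
    · exfalso
      have h3 : N ≤ I := by
        intro x hx
        have : (⟨x, hx⟩ : ↥N) ∈ I.subgroupOf N := by rw [h]; exact mem_top _
        exact this
      have h4 : 2 ∣ Nat.card ↥I := h2.trans (Subgroup.card_dvd_of_le h3)
      rw [← Nat.not_even_iff_odd, even_iff_two_dvd] at hodd
      exact hodd h4
    · intro x hx hxN
      apply key x hx
      apply hV x (hIC x hx)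
      intro n hn'
      have h3 : (⟨x, hxN⟩ : ↥N) ∈ center ↥N := h hx
      exact (congrArg Subtype.val (mem_center_iff.1 h3 ⟨n, hn'⟩)).symm
  rw [eq_bot_iff]
  intro x hx
  rw [mem_bot]
  apply key x hx
  apply hV x (hIC x hx)
  intro n hn'
  have h3 : x * n * x⁻¹ * n⁻¹ ∈ N := N.mul_mem (hn x (hIC x hx) n hn') (N.inv_mem hn')
  have h4 : x * n * x⁻¹ * n⁻¹ ∈ I := by
    have := I.mul_mem hx (hIn n (mem_centralizer_singleton_iff.1 (hNC hn')) x⁻¹ (I.inv_mem hx))
    convert this using 1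
    group
  have h5 := hIN _ h4 h3
  calc x * n = x * n * x⁻¹ * n⁻¹ * (n * x) := by group
    _ = n * x := by rw [h5, one_mul]

/-- **one component, with the core** -/
theorem At.of_quasi {X : Type u} [Group X] [Finite X] {t : X} {N : Subgroup X} (hN : IsQuasisimple ↥N)
    (h2 : 2 ∣ Nat.card ↥N) (hNC : N ≤ centralizer ({t} : Set X))
    (hn : ∀ c ∈ centralizer ({t} : Set X), ∀ x ∈ N, c * x * c⁻¹ ∈ N) {k : ℕ}
    (hV : ∀ x ∈ centralizer ({t} : Set X), (∀ n ∈ N, x * n = n * x) → x ^ 2 ^ k = 1)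
    (hperf : ∀ P : Subgroup X, P ≤ centralizer ({t} : Set X) → ⁅P, P⁆ = P → P ≤ N) (hg : Good ↥N) : At X t :=
  At.of_comp (core_of_quasi hN h2 hNC hn hV) hN hNC hperf hg

end Cfsg.Agent.CTwoTab
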