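import Cfsg.Agent.KFacts.Ru.Core
import Cfsg.Agent.RuD.IdxPermG_m3
import Cfsg.Agent.CTwoTab.Kinds
import Cfsg.Agent.CTwoTab.OfLarge
import Cfsg.Agent.S1162
import Cfsg.Agent.FastGrp
import Cfsg.Agent.Prune
set_option linter.all false
prune_inst 0x7f00000000000000000000000000000000000000000000000000000000000000000000000000000000000000000000000000000000000000000000000000000000000000000000000000000000000000003fffffffffffffffffffffffffffbeffbdffffffff
open scoped Cfsg.Agent.FastGrp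

/-!
# `Ru`: the components of involution centralizers are `C₂`-groups (helper22)

`C(2A) = 2^{1+4+6}.S₅` (no component: the union of the five members of `Σ(z)` is a normal 2-subgroup, and its centralizer
is a 2-group), `C(2B) = 2² × Sz(8)`.
-/

set_option autoImplicit false

namespace Cfsg.Agent.CTwoTab.Ru

open Subgroup Cfsg Cfsg.Agent.RuB Cfsg.Agent.RuB.Core Cfsg.Agent.RuB.Count Cfsg.Agent.RuB.NormQ
open Cfsg.Agent.RuB.NormZ Cfsg.Agent.Ru127.Form Cfsg.Agent.Ru127.Basic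
open Cfsg.Agent.Ru127.FixD (DV)
open Cfsg.Agent.KFacts.Ru Cfsg.Agent.ThreePrime

variable {G : Type*} [Group G]

/-! ### the class 2A -/

/-- the union of the members of `Σ(z)` -/
theorem exists_E [Finite G] (C : Core G) : ∃ E : Subgroup G, (∀ b, C.z b ∈ E) ∧ (∀ x ∈ E, x * x = 1) ∧
    (∀ c, c * C.z 1 = C.z 1 * c → ∀ x ∈ E, c * x * c⁻¹ ∈ E) ∧ (∀ x ∈ E, x * C.z 1 = C.z 1 * x) := by
  obtain ⟨K, hν, hμ, L, hcz⟩ := Cfsg.Agent.Ru127.Sg.exists_localData C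
  have hz1 : C.z 1 ≠ 1 := fun h => one_ne_zero (C.z_eq_one h)
  have h5 := InvC.card_sig C _ Local.Zs_mem_ZZ _ (z_mem_Zs 1) hz1
  refine ⟨
    { carrier := {u | ∃ a ∈ Local.ZZ C, C.z 1 ∈ a ∧ u ∈ a}
      one_mem' := ⟨Zs C, Local.Zs_mem_ZZ, z_mem_Zs 1, one_mem _⟩
      mul_mem' := ?_
      inv_mem' := ?_ }, ?_, ?_, ?_, ?_⟩
  · rintro u v ⟨b, hb, hzb, hu⟩ ⟨c, hc, hzc, hv⟩
    exact InvA.exists_mul L hz1 h5 hb hzb hc hzc hu hv
  · rintro u ⟨b, hb, hzb, hu⟩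
    exact ⟨b, hb, hzb, inv_mem hu⟩
  · intro b
    exact ⟨Zs C, Local.Zs_mem_ZZ, z_mem_Zs 1, z_mem_Zs b⟩
  · rintro x ⟨a, ha, -, hx⟩
    exact sq_mem L ha hx
  · rintro c hc x ⟨a, ha, hza, hx⟩
    refine ⟨cj c a, L.Z_conj a ha c, ?_, ?_⟩
    · rw [mem_cj]
      have h1 : c⁻¹ * C.z 1 * c = C.z 1 := by
        rw [mul_assoc, ← hc, inv_mul_cancel_left]
      rwa [h1]
    · rw [mem_cj]
      have h1 : c⁻¹ * (c * x * c⁻¹) * c = x := by group
      rwa [h1]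
  · rintro x ⟨a, ha, hza, hx⟩
    exact comm_mem L ha hx hza

theorem pow_QQ (C : Core G) {x : G} (hx : x ∈ C.QQ) : x ^ 2 ^ 11 = 1 := by
  have h1 := pow_card_eq_one' (x := (⟨x, hx⟩ : ↥C.QQ))
  have h2 : Nat.card ↥C.QQ = 2 ^ 11 := by
    rw [QSyl.card_QQ C]; norm_num
  rw [h2] at h1
  exact congrArg Subtype.val h1

theorem data_z [Finite G] (C : Core G) : ∃ R : Subgroup G, R ≤ centralizer ({C.z 1} : Set G) ∧
    (∀ c ∈ centralizer ({C.z 1} : Set G), ∀ r ∈ R, c * r * c⁻¹ ∈ R) ∧ IsPGroup 2 ↥R ∧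
    (∀ c ∈ centralizer ({C.z 1} : Set G), (∀ r ∈ R, c * r = r * c) → c ^ 2 ^ 11 = 1) := by
  obtain ⟨E, h1, h2, h3, h4⟩ := exists_E C
  obtain ⟨K, hν, hμ, L, hcz⟩ := Cfsg.Agent.Ru127.Sg.exists_localData C
  refine ⟨E, fun r hr => mem_centralizer_singleton_iff.2 (h4 r hr),
    fun c hc r hr => h3 c (mem_centralizer_singleton_iff.1 hc) r hr, ?_, ?_⟩
  · intro x
    refine ⟨1, Subtype.ext ?_⟩
    change (x : G) ^ 2 ^ 1 = 1
    rw [pow_one, pow_two]
    exact h2 x x.2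
  · intro c _ hcr
    exact pow_QQ C (hcz c fun b => hcr _ (h1 b))

theorem no_comp_z [Finite G] (C : Core G) (K : Subgroup G) : ¬ IsComponentOf K (centralizer ({C.z 1} : Set G)) := by
  obtain ⟨R, h1, h2, h3, h4⟩ := data_z C
  exact no_comp_of_cent h1 h2 h3 h4 K

theorem at_z [Finite G] (C : Core G) : At G (C.z 1) := by
  obtain ⟨R, h1, h2, h3, h4⟩ := data_z C
  exact at_of_cent h1 h2 h3 h4

/-! ### the class 2B -/

theorem exists_sz {s w f : G} (h : SzL.Rel8 s w f) (hc : Nat.card (closure ({s, w, f} : Set G)) = 29120) :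
    Cfsg.Lie.IsoSuzuki ↥(closure ({s, w, f} : Set G)) := by
  have hK8 : Fintype.card K8 = 2 ^ (2 * 1 + 1) := by rw [K8.card]; norm_num
  let R := SzRel.ofGood (Cfsg.Agent.LieRecognition.SzMatrix.good hK8)
  have hR : Cfsg.Agent.RuRed.RelW R := Cfsg.Agent.RuRed.RelW.ofGood _
  have h8 := SzL.rel8 R hR
  have hb := SzL.card_le (SzL.prod_rel8 h h8)
  have e1 : Prod.fst '' ({(s, R.u 1 1), (w, R.w), (f, R.d RuE.Letters.k0)} :
      Set (G × ↥(Cfsg.Lie.Sz K8 (2 ^ (1 + 1))))) = {s, w, f} := by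
    simp only [Set.image_insert_eq, Set.image_singleton]
  have e2 : Prod.snd '' ({(s, R.u 1 1), (w, R.w), (f, R.d RuE.Letters.k0)} :
      Set (G × ↥(Cfsg.Lie.Sz K8 (2 ^ (1 + 1))))) = {R.u 1 1, R.w, R.d RuE.Letters.k0} := by
    simp only [Set.image_insert_eq, Set.image_singleton]
  obtain ⟨φ, -⟩ := SzL.exists_iso ({(s, R.u 1 1), (w, R.w), (f, R.d RuE.Letters.k0)} :
      Set (G × ↥(Cfsg.Lie.Sz K8 (2 ^ (1 + 1))))) 29120 (Count.card_J R)
    (by rw [e1]; exact hc) (by rw [e2]; exact SzL.closure_eq_top R) hb.2 hb.1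
  exact ⟨K8, inferInstance, inferInstance, 1, le_rfl, hK8, ⟨(MulEquiv.subgroupCongr (by rw [e1])).trans φ⟩⟩

theorem cp_sz {K : Type*} [Group K] (h : Cfsg.Lie.IsoSuzuki K) : IsCpSimple 2 K :=
  Or.inl (Or.inl (Or.inr (Or.inr (Or.inr (Or.inr (Or.inr (Or.inr (Or.inr (Or.inr (Or.inl ⟨rfl, h⟩))))))))))

theorem le_cent (C : Core G) (a : A4) : C.L ≤ centralizer ({C.v a} : Set G) := fun l hl =>
  mem_centralizer_singleton_iff.2 (C.v_comm a l hl).symm

theorem perfect_le_L (C : Core G) {a : A4} (ha : a ≠ 0) (P : Subgroup G) (hP : P ≤ centralizer ({C.v a} : Set G))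
    (hperf : ⁅P, P⁆ = P) : P ≤ C.L := by
  refine perfect_le_of_sq (fun c hc => ?_) P hP hperf
  obtain ⟨b, l, hl, rfl⟩ := C.cent a ha c (mem_centralizer_singleton_iff.1 hc)
  have h1 : (C.v b * l) * (C.v b * l) = l * l := by
    calc (C.v b * l) * (C.v b * l) = C.v b * (l * C.v b) * l := by group
      _ = C.v b * (C.v b * l) * l := by rw [C.v_comm b l hl]
      _ = (C.v b * C.v b) * (l * l) := by group
      _ = l * l := by rw [C.v_sq b, one_mul]
  rw [h1]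
  exact mul_mem hl hl

/-- the structure of `C(v)` -/
theorem at_v [Finite G] (C : Core G) (hs : IsSimpleGroup ↥C.L) (hna : ¬ IsMulCommutative ↥C.L)
    (hsz : Cfsg.Lie.IsoSuzuki ↥C.L) {a : A4} (ha : a ≠ 0) : At G (C.v a) := by
  have hv2 : ∀ b, C.v b * C.v b = 1 := C.v_sq
  have hle : C.L ≤ centralizer ({C.v a} : Set G) := fun l hl =>
    mem_centralizer_singleton_iff.2 (C.v_comm a l hl).symm
  have hcen : center ↥C.L = ⊥ := center_eq_bot_of_simple hna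
  refine At.of_quasi (N := C.L) (k := 1) (isQuasisimple_of_simple hna) ?_ hle ?_ ?_ ?_ (good_of_simple hna (cp_sz hsz))
  · have h1 : orderOf (⟨C.z 1, C.z_mem 1⟩ : ↥C.L) = 2 := by
      apply orderOf_eq_prime
      · rw [pow_two]
        exact Subtype.ext (C.z_sq 1)
      · intro h
        exact one_ne_zero (C.z_eq_one (congrArg Subtype.val h))
    rw [← h1]
    exact orderOf_dvd_natCard _
  · intro c hc x hx
    obtain ⟨b, l, hl, rfl⟩ := C.cent a ha c (mem_centralizer_singleton_iff.1 hc)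
    have h1 : C.v b * l * x * (C.v b * l)⁻¹ = l * x * l⁻¹ := by
      have h2 : C.v b * (l * x * l⁻¹) = l * x * l⁻¹ * C.v b :=
        C.v_comm b _ (mul_mem (mul_mem hl hx) (inv_mem hl))
      calc C.v b * l * x * (C.v b * l)⁻¹ = C.v b * (l * x * l⁻¹) * (C.v b)⁻¹ := by group
        _ = l * x * l⁻¹ := by rw [h2]; group
    rw [h1]
    exact mul_mem (mul_mem hl hx) (inv_mem hl)
  · intro x hx hxL
    obtain ⟨b, l, hl, rfl⟩ := C.cent a ha x (mem_centralizer_singleton_iff.1 hx)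
    have hl1 : (⟨l, hl⟩ : ↥C.L) ∈ center ↥C.L := by
      rw [mem_center_iff]
      intro m
      apply Subtype.ext
      have h1 := hxL m m.2
      have h2 : C.v b * (l * (m : G)) = C.v b * ((m : G) * l) := by
        calc C.v b * (l * (m : G)) = C.v b * l * m := by group
          _ = m * (C.v b * l) := h1
          _ = m * C.v b * l := by group
          _ = C.v b * m * l := by rw [C.v_comm b m m.2]
          _ = _ := by group
      exact (mul_left_cancel h2).symm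
    rw [hcen, mem_bot] at hl1
    have hl2 : l = 1 := congrArg Subtype.val hl1
    rw [hl2, mul_one, pow_one, pow_two]
    exact hv2 b
  · exact perfect_le_L C ha

theorem na_L (C : Core G) : ¬ IsMulCommutative ↥C.L := by
  intro h
  have h1 : (⟨C.U 1 0, C.U_mem 1 0⟩ : ↥C.L) * ⟨C.U K8.al 0, C.U_mem K8.al 0⟩ =
      ⟨C.U K8.al 0, C.U_mem K8.al 0⟩ * ⟨C.U 1 0, C.U_mem 1 0⟩ := h.is_comm.comm _ _
  have h2 : C.U 1 0 * C.U K8.al 0 = C.U K8.al 0 * C.U 1 0 := congrArg Subtype.val h1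
  rw [C.U_mul, C.U_mul] at h2
  have h3 := (C.U_inj h2).2
  revert h3
  decide +kernel

theorem simple_sz {K : Type*} [Group K] (h : Cfsg.Lie.IsoSuzuki K) : IsSimpleGroup K := by
  obtain ⟨F, _, _, m, hm, hF, ⟨e⟩⟩ := h
  have hs : IsSimpleGroup ↥(Cfsg.Lie.Sz F (2 ^ (m + 1))) := Cfsg.Agent.S1162.result hm hF
  exact e.isSimpleGroup

/-- a core whose group `L` is `Sz(8)` -/
theorem exists_core_sz {K : Type*} [Group K] (h : Cfsg.Spor.IsoRu K) :
    ∃ C : Core K, Cfsg.Lie.IsoSuzuki ↥C.L ∧ Nat.card ↥C.L = 29120 := by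
  obtain ⟨t, s, w, f, d, y, hL⟩ := exists_lets h
  obtain ⟨C, -, hC, -⟩ := hL.exists_core
  exact ⟨C, by rw [hC]; exact exists_sz hL.rel8 hL.card_L, by rw [hC]; exact hL.card_L⟩

/-- **`Ru`** -/
theorem compC2_of_iso {X : Type*} [Group X] [Finite X] (h : Cfsg.Spor.IsoRu X) : CompC2 X := by
  obtain ⟨C, hsz, -⟩ := exists_core_sz h
  have hs : IsSimpleGroup ↥C.L := simple_sz hsz
  refine CompC2.mk_of_isConj (fun s => s = C.z 1 ∨ ∃ a, a ≠ 0 ∧ s = C.v a) (fun x hxx hx1 => ?_) ?_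
  · rcases InvC.invol_cases C hxx hx1 with ⟨g, hg⟩ | ⟨g, a, ha, hg⟩
    · exact ⟨C.z 1, Or.inl rfl, isConj_iff.2 ⟨g, hg⟩⟩
    · exact ⟨C.v a, Or.inr ⟨a, ha, rfl⟩, isConj_iff.2 ⟨g, hg⟩⟩
  · rintro s (rfl | ⟨a, ha, rfl⟩)
    · exact at_z C
    · exact at_v C hs (na_L C) hsz ha

end Cfsg.Agent.CTwoTab.Ru
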