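import Cfsg.Agent.SignalizersComponents.QuasisimpleQuotient
import Cfsg.Agent.Lib.ComponentSolvable
import Cfsg.Agent.Lib.Cores
import Cfsg.Agent.LieClassical.Order72
import Cfsg.Agent.CTwoTab.Base
import Cfsg.Agent.FastGrp
import Cfsg.Agent.Prune
set_option linter.all false
prune_inst 0x7f00000000000000000000000000000000000000000000000000000000000000000000000000000000000000000000000000000000000000000000000000000000000000000000000000000000000000003fffffffffffffffffffffffffffbeffbdffffffff
open scoped Cfsg.Agent.FastGrp

/-!
# Components and the core of a group with a large normal subgroup mapping onto a known group (helper96)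

`N ⊴ C` with `C / N` solvable, `π : N →* U` surjective with solvable kernel.
-/

set_option autoImplicit false

namespace Cfsg.Agent.CTwoTab.Tower

open Cfsg Subgroup
open Cfsg.Agent.SignalizersComponents.Components
open Cfsg.Agent.SignalizersComponents.QuasisimpleQuotient

/-- a perfect subgroup lies in a normal subgroup with solvable quotient -/
theorem le_of_perfect {C : Type*} [Group C] {N K : Subgroup C} [N.Normal] (hN : Group.IsSolvable (C ⧸ N))
    (hK : Group.IsPerfect K) : K ≤ N := by
  have h1 : Group.IsPerfect (K.map (QuotientGroup.mk' N)) :=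
    Group.IsPerfect.ofSurjective (f := (QuotientGroup.mk' N).subgroupMap K)
      ((QuotientGroup.mk' N).subgroupMap_surjective K)
  have h2 : Group.IsSolvable (K.map (QuotientGroup.mk' N)) := inferInstance
  by_contra hle
  have h3 : Nontrivial (K.map (QuotientGroup.mk' N)) := by
    rw [Subgroup.nontrivial_iff_ne_bot]
    intro h0
    rw [Subgroup.map_eq_bot_iff, QuotientGroup.ker_mk'] at h0
    exact hle h0
  exact Group.IsPerfect.not_isSolvable _ h2

section

variable {C U : Type*} [Group C] [Group U] {N : Subgroup C} [N.Normal]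

/-- the restriction of `π` to a subgroup `K ≤ N` -/
def res (π : ↥N →* U) (K : Subgroup C) (h : K ≤ N) : ↥K →* U := π.comp (inclusion h)

theorem comp_image (hN : Group.IsSolvable (C ⧸ N)) (π : ↥N →* U) (hπ : Function.Surjective π)
    (hs : Group.IsSolvable π.ker) {K : Subgroup C} (hK : IsComponent K) :
    ∃ h : K ≤ N, IsComponent ((K.subgroupOf N).map π) := by
  have h : K ≤ N := le_of_perfect hN hK.2.1
  refine ⟨h, ?_⟩
  have h1 : IsComponent (K.subgroupOf N) := isComponent_subgroupOf h hK
  refine ⟨h1.1.map hπ, ?_⟩
  have h2 : Nontrivial ((K.subgroupOf N).map π) := by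
    rw [Subgroup.nontrivial_iff_ne_bot]
    intro h0
    rw [Subgroup.map_eq_bot_iff] at h0
    have h3 : Group.IsSolvable (K.subgroupOf N) :=
      Group.isSolvable_of_isSolvable_injective (f := inclusion h0) (inclusion_injective h0)
    exact quasisimple_not_isSolvable h1.2 h3
  exact isQuasisimple_of_surjective (π.subgroupMap (K.subgroupOf N))
    (π.subgroupMap_surjective _) h1.2

/-- if `U` has no component, neither has `C` -/
theorem no_comp (hN : Group.IsSolvable (C ⧸ N)) (π : ↥N →* U) (hπ : Function.Surjective π)
    (hs : Group.IsSolvable π.ker) (hU : ∀ L : Subgroup U, ¬ IsComponent L) (K : Subgroup C) :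
    ¬ IsComponent K := fun hK => by
  obtain ⟨_, h⟩ := comp_image hN π hπ hs hK
  exact hU _ h

/-- if `U` is simple, every component of `C` has central quotient `U` -/
theorem comp_simple (hN : Group.IsSolvable (C ⧸ N)) (π : ↥N →* U) (hπ : Function.Surjective π)
    (hs : Group.IsSolvable π.ker) [hU : IsSimpleGroup U] (hna : ¬ IsMulCommutative U) {K : Subgroup C}
    (hK : IsComponent K) : Nonempty (↥K ⧸ center ↥K ≃* U) := by
  obtain ⟨h, hc⟩ := comp_image hN π hπ hs hK
  have hsub : ∀ H : Subgroup U, H.IsSubnormal → H = ⊥ ∨ H = ⊤ := by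
    intro H hH
    induction hH with
    | top => exact Or.inr rfl
    | step H L h_le hSubn hN ih =>
      rcases ih with rfl | rfl
      · exact Or.inl (le_bot_iff.1 h_le)
      · rw [normal_subgroupOf_iff_le_normalizer h_le, top_le_iff, normalizer_eq_top_iff] at hN
        exact hN.eq_bot_or_eq_top
  have htop : (K.subgroupOf N).map π = ⊤ := by
    rcases hsub _ hc.1 with h0 | h0
    · exfalso
      have h1 := quasisimple_nontrivial hc.2
      rw [Subgroup.nontrivial_iff_ne_bot] at h1
      exact h1 h0
    · exact h0
  have hcU : center U = ⊥ := by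
    rcases (inferInstance : (center U).Normal).eq_bot_or_eq_top with h0 | h0
    · exact h0
    · exfalso
      apply hna
      exact ⟨⟨fun a b => by
        have hb : b ∈ center U := by rw [h0]; trivial
        exact mem_center_iff.1 hb a⟩⟩
  let f : ↥K →* U := res π K h
  have hf : Function.Surjective f := by
    intro u
    have hu : u ∈ (K.subgroupOf N).map π := by rw [htop]; trivial
    obtain ⟨x, hx, rfl⟩ := hu
    exact ⟨⟨x, hx⟩, rfl⟩
  have hker : f.ker = center ↥K := by
    apply le_antisymm
    · have h1 : Group.IsSolvable f.ker := by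
        let g : f.ker →* π.ker :=
          { toFun := fun x => ⟨⟨((x : ↥K) : C), h (x : ↥K).2⟩, x.2⟩
            map_one' := rfl
            map_mul' := fun _ _ => rfl }
        refine Group.isSolvable_of_isSolvable_injective (f := g) ?_
        intro x y hxy
        apply Subtype.ext
        apply Subtype.ext
        exact congrArg (fun t : π.ker => ((t : ↥N) : C)) hxy
      exact Lib.ComponentSolvable.quasisimple_solvable_normal_le_center hK.2 inferInstance h1
    · intro x hx
      rw [MonoidHom.mem_ker]
      have h1 : f x ∈ center U := by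
        rw [mem_center_iff]
        intro y
        obtain ⟨y, rfl⟩ := hf y
        rw [← map_mul, ← map_mul, mem_center_iff.1 hx]
      rw [hcU] at h1
      exact h1
  exact ⟨(QuotientGroup.quotientMulEquivOfEq hker.symm).trans
    (QuotientGroup.quotientKerEquivOfSurjective f hf)⟩

end

/-- `O(C) = 1` when `N ⊴ C` contains its centralizer, `π : N →* U` has as kernel a 2-group and `O(U) = 1` -/
theorem core_bot {C U : Type*} [Group C] [Finite C] [Group U] [Finite U] {N : Subgroup C} [N.Normal]
    (hcen : centralizer (N : Set C) ≤ N) (π : ↥N →* U) (hπ : Function.Surjective π) (h2 : IsPGroup 2 π.ker)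
    (hU : pPrimeCore 2 U = ⊥) : pPrimeCore 2 C = ⊥ := by
  have hO := Lib.Cores.pPrimeCore_coprime (G := C) 2
  set O := pPrimeCore 2 C with hOdef
  have : O.Normal := pPrimeCore_normal 2 C
  -- `O ∩ N` is trivial
  have key : O ⊓ N = ⊥ := by
    have hc : (Nat.card ↥(O.subgroupOf N)).Coprime 2 := by
      refine Nat.Coprime.coprime_dvd_left ?_ hO
      have e : Nat.card ↥(O.subgroupOf N) = Nat.card ↥((O.subgroupOf N).map N.subtype) :=
        Nat.card_congr ((O.subgroupOf N).equivMapOfInjective _ N.subtype_injective).toEquiv
      rw [e]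
      exact card_dvd_of_le (by rw [subgroupOf_map_subtype]; exact inf_le_left)
    have h1 : (O.subgroupOf N).map π ≤ pPrimeCore 2 U := by
      refine le_sSup ⟨?_, ?_⟩
      · exact (inferInstance : (O.subgroupOf N).Normal).map _ hπ
      · exact Nat.Coprime.coprime_dvd_left (card_map_dvd _ _) hc
    rw [hU, le_bot_iff, Subgroup.map_eq_bot_iff] at h1
    have h3 : IsPGroup 2 ↥(O.subgroupOf N) := h2.to_le h1
    have h4 : O.subgroupOf N = ⊥ := by
      rw [← Subgroup.card_eq_one]
      obtain ⟨n, hn⟩ := IsPGroup.iff_card.1 h3
      rw [hn] at hc ⊢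
      rcases Nat.eq_zero_or_pos n with rfl | hpos
      · rfl
      · exfalso
        have := (Nat.coprime_pow_left_iff hpos 2 2).1 hc
        norm_num at this
    rw [Subgroup.subgroupOf_eq_bot, disjoint_iff] at h4
    exact h4
  have h5 : O ≤ centralizer (N : Set C) := by
    intro x hx
    rw [mem_centralizer_iff]
    intro n hn
    have h6 : x * n * x⁻¹ * n⁻¹ ∈ O ⊓ N := by
      refine ⟨?_, ?_⟩
      · have : x * (n * x⁻¹ * n⁻¹) ∈ O :=
          O.mul_mem hx (Normal.conj_mem inferInstance _ (O.inv_mem hx) n)
        simpa [mul_assoc] using this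
      · exact N.mul_mem (Normal.conj_mem inferInstance _ hn x) (N.inv_mem hn)
    rw [key, mem_bot] at h6
    have h7 : x * n = n * x := by
      calc x * n = (x * n * x⁻¹ * n⁻¹) * (n * x) := by group
        _ = n * x := by rw [h6, one_mul]
    exact h7.symm
  have h8 : O ≤ O ⊓ N := le_inf le_rfl (h5.trans hcen)
  rw [key] at h8
  exact le_bot_iff.1 h8

/-! ### The centralizer of a product of few permuted elements -/

section perm

variable {X : Type*} [Group X] {W : X} {s : Set X}


/-- the action of `C(W)` on the set `s` by conjugation -/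
def permHom (hst : ∀ y : X, y * W = W * y → ∀ x ∈ s, y * x * y⁻¹ ∈ s) :
    ↥(centralizer ({W} : Set X)) →* Equiv.Perm ↥s where
  toFun y :=
    { toFun := fun x => ⟨(y : X) * x * (y : X)⁻¹, hst y (mem_centralizer_singleton_iff.1 y.2) x x.2⟩
      invFun := fun x => ⟨((y⁻¹ : ↥(centralizer ({W} : Set X))) : X) * x * ((y⁻¹ : ↥(centralizer ({W} : Set X))) : X)⁻¹,
        hst _ (mem_centralizer_singleton_iff.1 (y⁻¹).2) x x.2⟩
      left_inv := fun x => by
        apply Subtype.ext
        simp only [coe_inv, inv_inv]
        group
      right_inv := fun x => by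
        apply Subtype.ext
        simp only [coe_inv, inv_inv]
        group }
  map_one' := by
    ext x
    simp
  map_mul' y z := by
    ext x
    simp only [Equiv.coe_fn_mk, Equiv.Perm.coe_mul, Function.comp_apply, coe_mul, mul_inv_rev]
    group

theorem ker_permHom (hst : ∀ y : X, y * W = W * y → ∀ x ∈ s, y * x * y⁻¹ ∈ s) :
    (permHom hst).ker = (centralizer s).subgroupOf (centralizer ({W} : Set X)) := by
  ext y
  rw [MonoidHom.mem_ker, mem_subgroupOf, mem_centralizer_iff]
  constructor
  · intro h x hx
    have h1 := congrArg (fun p : Equiv.Perm ↥s => ((p ⟨x, hx⟩ : ↥s) : X)) h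
    have h2 : (y : X) * x * (y : X)⁻¹ = x := h1
    rw [mul_inv_eq_iff_eq_mul] at h2
    exact h2.symm
  · intro h
    ext ⟨x, hx⟩
    show (y : X) * x * (y : X)⁻¹ = x
    rw [mul_inv_eq_iff_eq_mul]
    exact (h x hx).symm

theorem tower_data [Finite X] (hst : ∀ y : X, y * W = W * y → ∀ x ∈ s, y * x * y⁻¹ ∈ s) (hcard : s.ncard ≤ 3)
    (hss : ∀ x ∈ s, x ∈ centralizer s) (hsW : ∀ x ∈ s, x * W = W * x) :
    ∃ _ : ((centralizer s).subgroupOf (centralizer ({W} : Set X))).Normal,
      Group.IsSolvable (↥(centralizer ({W} : Set X)) ⧸ (centralizer s).subgroupOf (centralizer ({W} : Set X))) ∧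
      centralizer (((centralizer s).subgroupOf (centralizer ({W} : Set X)) :
        Subgroup ↥(centralizer ({W} : Set X))) : Set ↥(centralizer ({W} : Set X))) ≤
        (centralizer s).subgroupOf (centralizer ({W} : Set X)) := by
  have hk := ker_permHom hst
  have hN : ((centralizer s).subgroupOf (centralizer ({W} : Set X))).Normal := by
    rw [← hk]; infer_instance
  refine ⟨hN, ?_, ?_⟩
  · have h1 : Nat.card (permHom hst).range ∣ 72 := by
      refine (card_subgroup_dvd_card _).trans ?_
      classical
      rw [Nat.card_perm]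
      have h2 : Nat.card ↥s ≤ 3 := hcard
      interval_cases (Nat.card ↥s) <;> decide
    have h3 := LieClassical.Order72.isSolvable_of_card_dvd h1
    have e : ↥(centralizer ({W} : Set X)) ⧸ (centralizer s).subgroupOf (centralizer ({W} : Set X)) ≃*
        (permHom hst).range :=
      (QuotientGroup.quotientMulEquivOfEq hk.symm).trans (QuotientGroup.quotientKerEquivRange _)
    exact Group.isSolvable_of_isSolvable_injective (f := e.toMonoidHom) e.injective
  · intro y hy
    rw [mem_subgroupOf, mem_centralizer_iff]
    intro x hx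
    rw [mem_centralizer_iff] at hy
    have h1 := hy ⟨x, mem_centralizer_singleton_iff.2 (hsW x hx)⟩ (mem_subgroupOf.2 (hss x hx))
    exact congrArg Subtype.val h1

variable {U : Type*} [Group U]

/-- the projection on the subgroup of the centralizer -/
def proj (hsub : centralizer s ≤ centralizer ({W} : Set X)) (π : ↥(centralizer s) →* U) :
    ↥((centralizer s).subgroupOf (centralizer ({W} : Set X))) →* U :=
  π.comp (subgroupOfEquivOfLe hsub).toMonoidHom

theorem proj_surjective (hsub : centralizer s ≤ centralizer ({W} : Set X)) {π : ↥(centralizer s) →* U}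
    (hπ : Function.Surjective π) : Function.Surjective (proj hsub π) :=
  hπ.comp (subgroupOfEquivOfLe hsub).surjective

end perm

end Cfsg.Agent.CTwoTab.Tower
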