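import Cfsg.Agent.CTwoTab.Base
import Cfsg.Agent.CTwoTab.Tower
import Cfsg.Agent.KFacts.FiTTh.Has
import Cfsg.Agent.SporRec.Fi22Iso
import Cfsg.Agent.CTwoTab.Card
import Cfsg.Agent.S0283
import Cfsg.Agent.CTwoTab.Restr
import Cfsg.Agent.H283.NoIn
import Cfsg.Agent.KFacts.RgdLieCharP
import Cfsg.Agent.FastGrp
import Cfsg.Agent.Prune
set_option linter.all false
prune_inst 0x7f00000000000000000000000000000000000000000000000000000000000000000000000000000000000000000000000000000000000000000000000000000000000000000000000000000000000000003fffffffffffffffffffffffffffbeffbdffffffff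
open scoped Cfsg.Agent.FastGrp

-- merged: Cfsg.Agent.CTwoTab.Fi23
section

/-!
# The centralizers of involutions of `Fi₂₃` (helper96)

* `q : C(z0) →* Fi22` with kernel `⟨z0⟩`;
* `pi2 : C(z0, a) →* PSU(6, 2)` onto, with kernel `⟨z0, a⟩`;
* `C(z0 a)` permutes `{z0, a}`, `C(z0 a c)` permutes `{z0, a, c}`.
-/

set_option autoImplicit false
set_option maxRecDepth 100000
set_option linter.constructorNameAsVariable false
set_option linter.style.haveILetI false

namespace Cfsg.Agent.CTwoTab.Fi23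

open Subgroup
open Cfsg.Agent.Fischer.Fi23Nets
open Cfsg.Agent.Fischer.Fi23Z Cfsg.Agent.Fischer.Fi23Hom Cfsg.Agent.Fischer.Fi23Rel
open Cfsg.Agent.Fischer Cfsg.Agent.Fischer.Fi23Class Cfsg.Agent.Fischer.Fi23Simple
open Cfsg.Agent.KFacts.FiTTh.Cent
open Cfsg.Spor Cfsg.Spor.Fi23
open Cfsg.Agent.Fischer.Fi23Final (gen_sq)

/-- the simple group `U₆(2)` -/
abbrev U : Type := Cfsg.PSU 6 Cfsg.Agent.SporRec.GF4.F4 2

/-- the node `a` of `Fi22` -/
abbrev a22 : Cfsg.Spor.Fi22 := PresentedGroup.of Fi22.Gen.a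

/-! ### Permutations of the transpositions -/

theorem point_c {h : Fi23} (hh : h * z0 * h⁻¹ = gen .c) (hac : (gen .c : Fi23) ≠ gen .a) : rho h 0 = 8003 := by
  have h1 : rho h 0 ∈ ({0, 8003, 11589} : Finset ℕ) := by
    apply hP3 _ (act.2.2.1 _)
    · rw [fixes_iff, hh]
      exact hWD3 _ (Or.inr (Or.inr rfl))
    · rintro _ ⟨g, hg, rfl⟩
      rw [fixes_iff, hh]
      exact (gen_comm .c g (by rcases hg with rfl | rfl | rfl | rfl | rfl <;> decide)).symm
  simp only [Finset.mem_insert, Finset.mem_singleton] at h1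
  rcases h1 with h1 | h1 | h1
  · exfalso
    apply ne_gen_c
    rw [← hh]
    have h2 := eq_of_rho_eq (g := h) (h := 1) (by rw [h1]; simp)
    rw [h2]
    simp
  · exact h1
  · exfalso
    obtain ⟨k, hk, hk2⟩ := exists_a
    have h2 := eq_of_rho_eq (g := h) (h := k) (by rw [h1, hk2])
    rw [hh, hk] at h2
    exact hac h2

/-- `y` commuting with `z0 a` permutes `z0, a` -/
theorem perm2 {y : Fi23} (hy : y * W2 = W2 * y) {x : Fi23} (hx : x ∈ Ds2) : y * x * y⁻¹ ∈ Ds2 := by
  obtain ⟨ka, hka, hpa⟩ := exists_a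
  obtain ⟨h, hh⟩ : ∃ h : Fi23, h * z0 * h⁻¹ = x := by
    rcases hx with rfl | rfl
    · exact ⟨1, by simp⟩
    · exact ⟨ka, hka⟩
  have h1 := stable (P := (({0, 11589} : Finset ℕ) : Set ℕ)) hW2 hP2 hX2 hWX2 hWD2 hy (h := h) (by rw [hh]; exact hx)
  have e0 : rho y (rho h 0) = rho (y * h) 0 := by rw [map_mul, Equiv.Perm.mul_apply]
  have e1 : y * h * z0 * (y * h)⁻¹ = y * x * y⁻¹ := by rw [← hh]; group
  rw [e0] at h1
  have h1' : rho (y * h) 0 = 0 ∨ rho (y * h) 0 = 11589 := by simpa only [_root_.map_mul, _root_.Equiv.Perm.coe_mul, _root_.Function.comp_apply, _root_.Finset.coe_insert, _root_.Finset.coe_singleton, _root_.Set.mem_insert_iff, _root_.Set.mem_singleton_iff] using h1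
  rcases h1' with h1 | h1
  · have h2 := eq_of_rho_eq (g := y * h) (h := 1) (by rw [h1]; simp)
    rw [e1] at h2
    left
    rw [h2]
    simp
  · have h2 := eq_of_rho_eq (g := y * h) (h := ka) (by rw [h1, hpa])
    rw [e1, hka] at h2
    exact Or.inr h2

theorem perm3 (hac : (gen .c : Fi23) ≠ gen .a) {y : Fi23} (hy : y * W3 = W3 * y) {x : Fi23} (hx : x ∈ Ds3) :
    y * x * y⁻¹ ∈ Ds3 := by
  obtain ⟨ka, hka, hpa⟩ := exists_a
  obtain ⟨kc, hkc⟩ := isConj_iff.1 (isConj_gen card_le .c)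
  have hpc := point_c hkc hac
  obtain ⟨h, hh⟩ : ∃ h : Fi23, h * z0 * h⁻¹ = x := by
    rcases hx with rfl | rfl | rfl
    · exact ⟨1, by simp⟩
    · exact ⟨ka, hka⟩
    · exact ⟨kc, hkc⟩
  have h1 := stable (P := (({0, 8003, 11589} : Finset ℕ) : Set ℕ)) hW3 hP3 hX3 hWX3 hWD3 hy (h := h)
    (by rw [hh]; exact hx)
  have e0 : rho y (rho h 0) = rho (y * h) 0 := by rw [map_mul, Equiv.Perm.mul_apply]
  have e1 : y * h * z0 * (y * h)⁻¹ = y * x * y⁻¹ := by rw [← hh]; group
  rw [e0] at h1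
  have h1' : rho (y * h) 0 = 0 ∨ rho (y * h) 0 = 8003 ∨ rho (y * h) 0 = 11589 := by simpa only [_root_.map_mul, _root_.Equiv.Perm.coe_mul, _root_.Function.comp_apply, _root_.Finset.coe_insert, _root_.Finset.coe_singleton, _root_.Set.mem_insert_iff, _root_.Set.mem_singleton_iff] using h1
  rcases h1' with h1 | h1 | h1
  · have h2 := eq_of_rho_eq (g := y * h) (h := 1) (by rw [h1]; simp)
    rw [e1] at h2
    left
    rw [h2]
    simp
  · have h2 := eq_of_rho_eq (g := y * h) (h := kc) (by rw [h1, hpc])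
    rw [e1, hkc] at h2
    exact Or.inr (Or.inr h2)
  · have h2 := eq_of_rho_eq (g := y * h) (h := ka) (by rw [h1, hpa])
    rw [e1, hka] at h2
    exact Or.inr (Or.inl h2)

/-! ### `C(a)` in `Fi22` -/

theorem cover22 : IsNonsplitDoubleCover ↥(centralizer ({a22} : Set Cfsg.Spor.Fi22)) U := by
  have h1 : SporRec.Fi22Iso.ψe a22 = Rank22.R.t Rank22.R.x0 := by
    rw [Rank22.R_t, Rank22.R_x0, Rank22.t_x0]
    exact SporRec.Fi22Iso.ψ_of .a
  have e : ↥(centralizer ({a22} : Set Cfsg.Spor.Fi22)) ≃* ↥(Centralizer.C Rank22.R) :=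
    (subMap SporRec.Fi22Iso.ψe _).trans (MulEquiv.subgroupCongr (by
      rw [map_centralizer_singleton, h1]))
  exact Centralizer.isNonsplitDoubleCover_congr e.symm Unit22.isNonsplitDoubleCover_C

/-- `C_{Fi22}(a) →* U₆(2)` onto, with kernel of order 2 -/
theorem exists_pi22 : ∃ π : ↥(centralizer ({a22} : Set Cfsg.Spor.Fi22)) →* U, Function.Surjective π ∧
    Nat.card π.ker = 2 ∧ π.ker ≤ center _ := by
  obtain ⟨h1, ⟨e⟩, -⟩ := cover22
  have hk : (e.toMonoidHom.comp (QuotientGroup.mk' (center ↥(centralizer ({a22} : Set Cfsg.Spor.Fi22))))).ker =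
      center _ := by
    ext x
    rw [MonoidHom.mem_ker, MonoidHom.comp_apply]
    change e _ = 1 ↔ _
    rw [EmbeddingLike.map_eq_one_iff, QuotientGroup.mk'_apply, QuotientGroup.eq_one_iff]
  refine ⟨e.toMonoidHom.comp (QuotientGroup.mk' _), ?_, ?_, ?_⟩
  · exact e.surjective.comp (QuotientGroup.mk'_surjective _)
  · rw [hk]
    exact h1
  · rw [hk]

/-! ### `C(z0)` -/

/-- `K = C(z0) →* Fi22` onto, with kernel `⟨z0⟩` -/
theorem exists_q : ∃ q : ↥K →* Cfsg.Spor.Fi22, Function.Surjective q ∧ (∀ x, q x = 1 → x = 1 ∨ x = Fi23Cover.zK) ∧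
    ∀ x, q (Fi23Cover.kgen x) = PresentedGroup.of x := by
  have hcen : Fi23Cover.zK ∈ center K := zK_center
  have hz1 : Fi23Cover.zK ≠ 1 := by
    intro h
    apply z0_ncomm
    have : z0 = 1 := congrArg Subtype.val h
    rw [this, one_mul, mul_one]
  have hz2 : Fi23Cover.zK * Fi23Cover.zK = 1 := Subtype.ext KFacts.FiTTh.Cent.zz
  have hord : orderOf Fi23Cover.zK = 2 := orderOf_eq_prime (by rw [pow_two]; exact hz2) hz1
  set! Z : Subgroup K := zpowers Fi23Cover.zK with hZ
  have hZle : Z ≤ center K := by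
    rw [hZ, zpowers_le]; exact hcen
  have hZn : Z.Normal := by
    refine ⟨fun n hn g => ?_⟩
    have h := mem_center_iff.1 (hZle hn) g
    rw [h, mul_assoc, mul_inv_cancel, mul_one]
    exact hn
  have hcZ : Nat.card Z = 2 := by rw [hZ, Nat.card_zpowers, hord]
  let π : K →* K ⧸ Z := QuotientGroup.mk' Z
  have hπz : π Fi23Cover.zK = 1 := (QuotientGroup.eq_one_iff _).2 (mem_zpowers Fi23Cover.zK)
  have hrel := Fi23Cover.rels π hπz
  let ψ : Cfsg.Spor.Fi22 →* K ⧸ Z := PresentedGroup.toGroup hrel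
  have hψ : ∀ x, ψ (PresentedGroup.of x) = π (Fi23Cover.kgen x) := fun x => PresentedGroup.toGroup.of hrel
  have hsurj : Function.Surjective ψ := by
    rw [← MonoidHom.range_eq_top, eq_top_iff]
    have h1 : (⊤ : Subgroup (K ⧸ Z)) = Subgroup.map π ⊤ := by
      rw [← MonoidHom.range_eq_map, MonoidHom.range_eq_top.2 (QuotientGroup.mk'_surjective Z)]
    rw [h1, ← Fi23Cover.closure_kgen, MonoidHom.map_closure, closure_le]
    rintro _ ⟨_, ⟨x, rfl⟩, rfl⟩
    exact ⟨PresentedGroup.of x, hψ x⟩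
  have hcQ : Nat.card (K ⧸ Z) = 64561751654400 := by
    have h := Subgroup.card_eq_card_quotient_mul_card_subgroup Z
    rw [card_K, hcZ] at h
    omega
  have hfin22 : Finite Cfsg.Spor.Fi22 := Nat.finite_of_card_ne_zero (by rw [S1696.result.2]; norm_num)
  have hbij : Function.Bijective ψ := by
    rw [Nat.bijective_iff_surjective_and_card]
    exact ⟨hsurj, by rw [S1696.result.2, hcQ]⟩
  let e : Cfsg.Spor.Fi22 ≃* K ⧸ Z := MulEquiv.ofBijective ψ hbij
  refine ⟨((e.symm : K ⧸ Z →* Cfsg.Spor.Fi22).comp π :), ?_, ?_, ?_⟩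
  · exact e.symm.surjective.comp (QuotientGroup.mk'_surjective _)
  · intro x hx
    rw [MonoidHom.comp_apply, MonoidHom.coe_coe, EmbeddingLike.map_eq_one_iff] at hx
    have h1 : x ∈ Z := (QuotientGroup.eq_one_iff x).1 hx
    rw [hZ, mem_zpowers_iff] at h1
    obtain ⟨k, rfl⟩ := h1
    have hz : Fi23Cover.zK ^ 2 = 1 := by rw [pow_two]; exact hz2
    rcases Int.even_or_odd' k with ⟨m, rfl | rfl⟩
    · left
      rw [zpow_mul]
      have : Fi23Cover.zK ^ (2 : ℤ) = 1 := by exact_mod_cast hz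
      rw [this, one_zpow]
    · right
      rw [zpow_add, zpow_mul, zpow_one]
      have : Fi23Cover.zK ^ (2 : ℤ) = 1 := by exact_mod_cast hz
      rw [this, one_zpow, one_mul]
  · intro x
    rw [MonoidHom.comp_apply, MonoidHom.coe_coe, MulEquiv.symm_apply_eq]
    exact (hψ x).symm

/-! ### Which products are transpositions -/

theorem not_conj2 : ¬ IsConj z0 (z0 * gen .a) := by
  intro h
  have h2 := thirteen
  rw [KFacts.FiTTh.Has.card_cent_of_isConj h] at h2
  exact c2 h2

theorem not_conj3 : ¬ IsConj z0 (z0 * gen .a * gen .c) := by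
  intro h
  have h2 := thirteen
  rw [KFacts.FiTTh.Has.card_cent_of_isConj h] at h2
  exact c3 h2

theorem cc : (gen .c : Fi23) * gen .c = 1 := gen_sq _

theorem aa : (gen .a : Fi23) * gen .a = 1 := gen_sq _

theorem hac : (gen .c : Fi23) ≠ gen .a := by
  intro h
  apply not_conj3
  rw [h, mul_assoc, aa, mul_one]

/-- `z0 c` is conjugate to `z0 a` -/
theorem conj_zc : IsConj (z0 * gen .a) (z0 * gen .c) := by
  obtain ⟨n, -, h1, h2, -⟩ := KFacts.FiTTh.Has.three 0 1 2 0 2 1 (by decide) (by decide) (by decide) (by decide) (by decide)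
    (by decide)
  simp only [KFacts.FiTTh.Has.s0, KFacts.FiTTh.Has.s1, KFacts.FiTTh.Has.s2, KFacts.FiTTh.BasFi.e_z,
    KFacts.FiTTh.BasFi.e_a, KFacts.FiTTh.BasFi.e_c] at h1 h2
  refine isConj_iff.2 ⟨n, ?_⟩
  calc n * (z0 * gen .a) * n⁻¹ = (n * z0 * n⁻¹) * (n * gen .a * n⁻¹) := by group
    _ = z0 * gen .c := by rw [h1, h2]

/-- `a c` is conjugate to `z0 a` -/
theorem conj_ac : IsConj (z0 * gen .a) (gen .a * gen .c) := by
  obtain ⟨n, -, h1, h2, -⟩ := KFacts.FiTTh.Has.three 0 1 2 1 2 0 (by decide) (by decide) (by decide) (by decide) (by decide)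
    (by decide)
  simp only [KFacts.FiTTh.Has.s0, KFacts.FiTTh.Has.s1, KFacts.FiTTh.Has.s2, KFacts.FiTTh.BasFi.e_z,
    KFacts.FiTTh.BasFi.e_a, KFacts.FiTTh.BasFi.e_c] at h1 h2
  refine isConj_iff.2 ⟨n, ?_⟩
  calc n * (z0 * gen .a) * n⁻¹ = (n * z0 * n⁻¹) * (n * gen .a * n⁻¹) := by group
    _ = gen .a * gen .c := by rw [h1, h2]

theorem ne_a {x : Fi23} : x * gen .a * x⁻¹ ≠ z0 * gen .a := by
  intro h
  apply not_conj2
  exact (isConj_gen card_le .a).trans (isConj_iff.2 ⟨x, h⟩)

theorem ne_c {x : Fi23} : x * gen .c * x⁻¹ ≠ z0 * gen .c ∧ x * gen .c * x⁻¹ ≠ gen .a * gen .c ∧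
    x * gen .c * x⁻¹ ≠ z0 * gen .a * gen .c := by
  refine ⟨fun h => ?_, fun h => ?_, fun h => ?_⟩
  · apply not_conj2
    exact ((isConj_gen card_le .c).trans (isConj_iff.2 ⟨x, h⟩)).trans conj_zc.symm
  · apply not_conj2
    exact ((isConj_gen card_le .c).trans (isConj_iff.2 ⟨x, h⟩)).trans conj_ac.symm
  · apply not_conj3
    exact (isConj_gen card_le .c).trans (isConj_iff.2 ⟨x, h⟩)

/-! ### `C(z0, a)` -/

theorem mem_cent2 {x : Fi23} : x ∈ centralizer Ds2 ↔ x * z0 = z0 * x ∧ x * gen .a = gen .a * x := by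
  rw [mem_centralizer_iff]
  constructor
  · intro h
    exact ⟨(h z0 (Or.inl rfl)).symm, (h (gen .a) (Or.inr rfl)).symm⟩
  · rintro ⟨h1, h2⟩ y (rfl | rfl)
    · exact h1.symm
    · exact h2.symm

theorem mem_cent3 {x : Fi23} : x ∈ centralizer Ds3 ↔
    x * z0 = z0 * x ∧ x * gen .a = gen .a * x ∧ x * gen .c = gen .c * x := by
  rw [mem_centralizer_iff]
  constructor
  · intro h
    exact ⟨(h z0 (Or.inl rfl)).symm, (h (gen .a) (Or.inr (Or.inl rfl))).symm,
      (h (gen .c) (Or.inr (Or.inr rfl))).symm⟩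
  · rintro ⟨h1, h2, h3⟩ y (rfl | rfl | rfl)
    · exact h1.symm
    · exact h2.symm
    · exact h3.symm

theorem exists_pi2 : ∃ π : ↥(centralizer Ds2) →* U, Function.Surjective π ∧
    ∀ x, π x = 1 ↔ ((x : Fi23) = 1 ∨ (x : Fi23) = z0 ∨ (x : Fi23) = gen .a ∨ (x : Fi23) = z0 * gen .a) := by
  obtain ⟨q, hq, hqk, hqg⟩ := exists_q
  obtain ⟨π, hπ, hπk, hπc⟩ := exists_pi22
  have ha : q (Fi23Cover.kgen .a) = a22 := hqg .a
  have hzq : q Fi23Cover.zK = 1 := by
    have h1 : q Fi23Cover.zK ∈ center Cfsg.Spor.Fi22 := by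
      rw [mem_center_iff]
      intro g
      obtain ⟨g, rfl⟩ := hq g
      rw [← map_mul, ← map_mul, mem_center_iff.1 zK_center]
    have hcb := Fi23Cover.center_eq_bot_of_simple S1696.result.1 (by
      rw [S1696.result.2]
      intro hp
      exact absurd ((Nat.prime_dvd_prime_iff_eq Nat.prime_two hp).1 (by norm_num)) (by norm_num))
    rw [hcb] at h1
    exact h1
  have hcoe : ((Fi23Cover.kgen .a : ↥K) : Fi23) = gen .a := rfl
  -- the map to the centralizer
  let f : ↥(centralizer Ds2) →* ↥(centralizer ({a22} : Set Cfsg.Spor.Fi22)) :=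
    { toFun := fun x => ⟨q ⟨x, (mem_K_iff _).2 (mem_cent2.1 x.2).1⟩, by
        rw [mem_centralizer_singleton_iff, ← ha, ← map_mul, ← map_mul]
        congr 1
        exact Subtype.ext (mem_cent2.1 x.2).2⟩
      map_one' := Subtype.ext (map_one q)
      map_mul' := fun x y => Subtype.ext (map_mul q ⟨x, (mem_K_iff _).2 (mem_cent2.1 x.2).1⟩
        ⟨y, (mem_K_iff _).2 (mem_cent2.1 y.2).1⟩) }
  have hf : Function.Surjective f := by
    rintro ⟨y, hy⟩
    obtain ⟨x, rfl⟩ := hq y
    rw [mem_centralizer_singleton_iff, ← ha, ← map_mul, ← map_mul] at hy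
    have h1 : q (x * Fi23Cover.kgen .a * (Fi23Cover.kgen .a * x)⁻¹) = 1 := by
      rw [map_mul, map_inv, hy, mul_inv_cancel]
    have hx : (x : Fi23) * gen .a = gen .a * x := by
      rcases hqk _ h1 with h2 | h2
      · exact congrArg Subtype.val (mul_inv_eq_one.1 h2)
      · exfalso
        have h3 : (x : Fi23) * gen .a * (gen .a * x)⁻¹ = z0 := congrArg Subtype.val h2
        apply ne_a (x := (x : Fi23))
        rw [← h3]
        have h4 : (gen .a : Fi23)⁻¹ = gen .a := inv_eq_of_mul_eq_one_left aa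
        rw [mul_inv_rev]
        group
    exact ⟨⟨x, mem_cent2.2 ⟨(mem_K_iff _).1 x.2, hx⟩⟩, Subtype.ext rfl⟩
  have ha1 : (⟨a22, mem_centralizer_singleton_iff.2 rfl⟩ : ↥(centralizer ({a22} : Set Cfsg.Spor.Fi22))) ∈ π.ker := by
    -- the kernel is the centre, of order 2
    have hc2 : Nat.card (center ↥(centralizer ({a22} : Set Cfsg.Spor.Fi22))) = 2 := cover22.1
    have hfin : Finite (center ↥(centralizer ({a22} : Set Cfsg.Spor.Fi22))) :=
      Nat.finite_of_card_ne_zero (by rw [hc2]; norm_num)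
    have heq : π.ker = center _ := by
      apply eq_of_le_of_card_ge hπc
      rw [hc2, hπk]
    rw [heq, mem_center_iff]
    rintro ⟨g, hg⟩
    exact Subtype.ext (mem_centralizer_singleton_iff.1 hg)
  have hane : (⟨a22, mem_centralizer_singleton_iff.2 rfl⟩ : ↥(centralizer ({a22} : Set Cfsg.Spor.Fi22))) ≠ 1 := by
    intro h
    have h1 : a22 = 1 := congrArg Subtype.val h
    rw [← ha] at h1
    rcases hqk _ h1 with h2 | h2
    · have h3 : (gen .a : Fi23) = 1 := congrArg Subtype.val h2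
      apply not_conj2
      rw [h3, mul_one]
    · exact ne_gen_a (congrArg Subtype.val h2)
  refine ⟨π.comp f, hπ.comp hf, fun x => ?_⟩
  rw [MonoidHom.comp_apply]
  constructor
  · intro hx
    have hx' : f x ∈ π.ker := hx
    have h1 : f x = 1 ∨ f x = ⟨a22, mem_centralizer_singleton_iff.2 rfl⟩ := by
      obtain ⟨y, -, hy⟩ := (Nat.card_eq_two_iff' (1 : π.ker)).1 hπk
      by_cases h2 : f x = 1
      · exact Or.inl h2
      · right
        have e1 := hy ⟨f x, hx'⟩ (fun h => h2 (congrArg Subtype.val h))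
        have e2 := hy ⟨_, ha1⟩ (fun h => hane (congrArg Subtype.val h))
        exact congrArg Subtype.val (e1.trans e2.symm)
    rcases h1 with h1 | h1
    · have h2 : q ⟨x, (mem_K_iff _).2 (mem_cent2.1 x.2).1⟩ = 1 := congrArg Subtype.val h1
      rcases hqk _ h2 with h3 | h3
      · exact Or.inl (congrArg Subtype.val h3)
      · exact Or.inr (Or.inl (congrArg Subtype.val h3))
    · have h2 : q ⟨x, (mem_K_iff _).2 (mem_cent2.1 x.2).1⟩ = q (Fi23Cover.kgen .a) := by
        rw [ha]; exact congrArg Subtype.val h1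
      have h3 : q (⟨x, (mem_K_iff _).2 (mem_cent2.1 x.2).1⟩ * (Fi23Cover.kgen .a)⁻¹) = 1 := by
        rw [map_mul, map_inv, h2, mul_inv_cancel]
      rcases hqk _ h3 with h4 | h4
      · right; right; left
        exact congrArg Subtype.val (mul_inv_eq_one.1 h4)
      · right; right; right
        exact congrArg Subtype.val (mul_inv_eq_iff_eq_mul.1 h4)
  · intro h
    have hz : ∀ h : z0 ∈ K, q ⟨z0, h⟩ = 1 := fun _ => hzq
    have hA : ∀ h : gen .a ∈ K, q ⟨gen .a, h⟩ = a22 := fun _ => ha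
    have h1 : f x = 1 ∨ f x = ⟨a22, mem_centralizer_singleton_iff.2 rfl⟩ := by
      obtain ⟨x, hx⟩ := x
      have hxK : x ∈ K := (mem_K_iff _).2 (mem_cent2.1 hx).1
      rcases h with h | h | h | h
      · left
        have h' : x = 1 := h
        subst h'
        exact map_one f
      · left
        apply Subtype.ext
        have h' : x = z0 := h
        subst h'
        exact hz hxK
      · right
        apply Subtype.ext
        have h' : x = gen .a := h
        subst h'
        exact hA hxK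
      · right
        apply Subtype.ext
        have h' : x = z0 * gen .a := h
        subst h'
        have h2 : (⟨z0 * gen .a, hxK⟩ : ↥K) = Fi23Cover.zK * Fi23Cover.kgen .a := rfl
        show q ⟨z0 * gen .a, hxK⟩ = a22
        rw [h2, map_mul, hzq, one_mul, ha]
    rcases h1 with h1 | h1
    · rw [h1, map_one]
    · rw [h1]
      exact ha1

/-! ### `Good` -/

theorem card_U : Nat.card U = 9196830720 := Order22.card_PSU

theorem good_U {K : Type*} [Group K] (h : Nonempty (K ⧸ center K ≃* U)) : Good K := by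
  obtain ⟨e⟩ := h
  have hS : IsCpSimple 2 U := by
    refine Or.inl (Or.inl (Or.inr (Or.inr (Or.inl ?_))))
    exact ⟨Cfsg.Agent.SporRec.GF4.F4, inferInstance, inferInstance,
      charP_of_card_eq_prime_pow (f := 2) rfl, 6, 2, rfl, by decide, by decide, ⟨MulEquiv.refl _⟩⟩
  have hN : Nat.card (K ⧸ center K) = 9196830720 := by rw [Nat.card_congr e.toEquiv, card_U]
  refine good_of_card (isCpSimple_two_congr e.symm hS) hN ?_ (Or.inl (by norm_num)) (by norm_num)
    (by norm_num) (by norm_num) (Or.inl (by norm_num))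
  refine fm9_of_primes [(2, 16), (3, 6), (5, 1), (7, 1), (11, 1)] ?_ (by norm_num) ?_ (by norm_num)
  · intro x hx
    simp only [List.mem_cons, List.not_mem_nil, or_false] at hx
    rcases hx with rfl | rfl | rfl | rfl | rfl <;> norm_num
  · intro x hx
    simp only [List.mem_cons, List.not_mem_nil, or_false] at hx
    rcases hx with rfl | rfl | rfl | rfl | rfl <;> norm_num

theorem good_Fi22 {K : Type*} [Group K] (h : Nonempty (K ⧸ center K ≃* Cfsg.Spor.Fi22)) : Good K := by
  obtain ⟨e⟩ := h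
  have hS : IsCpSimple 2 Cfsg.Spor.Fi22 := by
    refine Or.inr (Or.inr (Or.inl ⟨rfl, ?_⟩))
    unfold IsCTwoListed
    have : IsoFi22 Cfsg.Spor.Fi22 := ⟨MulEquiv.refl _⟩
    simp only [this, true_or, or_true]
  have hN : Nat.card (K ⧸ center K) = 64561751654400 := by rw [Nat.card_congr e.toEquiv, S1696.result.2]
  refine good_of_card (isCpSimple_two_congr e.symm hS) hN ?_ (Or.inl (by norm_num)) (by norm_num)
    (by norm_num) (by norm_num) (Or.inl (by norm_num))
  refine fm9_of_primes [(2, 18), (3, 9), (5, 2), (7, 1), (11, 1), (13, 1)] ?_ (by norm_num) ?_ (by norm_num)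
  · intro x hx
    simp only [List.mem_cons, List.not_mem_nil, or_false] at hx
    rcases hx with rfl | rfl | rfl | rfl | rfl | rfl <;> norm_num
  · intro x hx
    simp only [List.mem_cons, List.not_mem_nil, or_false] at hx
    rcases hx with rfl | rfl | rfl | rfl | rfl | rfl <;> norm_num

/-! ### The three classes -/

theorem at_one : At Fi23 z0 := by
  have : Finite Fi23 := Nat.finite_of_card_ne_zero (by rw [card_Fi23]; norm_num)
  obtain ⟨-, ⟨e⟩, -⟩ := KFacts.FiTTh.Quasi.cover
  have hg : Good ↥(centralizer ({z0} : Set Fi23)) := by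
    rw [← K_eq]
    exact good_Fi22 ⟨e⟩
  refine ⟨?_, ?_⟩
  · rw [centralizerPPrimeCore_eq_bot_iff]
    have hc : Nat.card (center ↥(centralizer ({z0} : Set Fi23))) = 2 := by
      rw [← K_eq]
      exact KFacts.FiTTh.Quasi.cover.1
    have hc2 := Lib.Cores.pPrimeCore_coprime (G := ↥(centralizer ({z0} : Set Fi23))) 2
    have hn := pPrimeCore_normal 2 ↥(centralizer ({z0} : Set Fi23))
    rcases SignalizersComponents.Components.quasisimple_normal KFacts.FiTTh.Quasi.qs _ hn with h | h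
    · exfalso
      rw [h, card_top] at hc2
      have h3 : 2 ∣ Nat.card ↥(centralizer ({z0} : Set Fi23)) := by
        rw [← hc]
        exact card_subgroup_dvd_card _
      have h4 := Nat.dvd_gcd h3 (dvd_refl 2)
      rw [hc2.gcd_eq_one] at h4
      omega
    · have h3 := card_dvd_of_le h
      rw [hc] at h3
      have h4 := Nat.dvd_gcd dvd_rfl h3
      rw [hc2.gcd_eq_one] at h4
      rw [← Subgroup.card_eq_one]
      exact Nat.dvd_one.1 h4
  · intro L hL
    have h1 : L = centralizer ({z0} : Set Fi23) :=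
      comp_eq_of_le KFacts.FiTTh.Quasi.qs le_rfl hL hL.1
    rw [h1]
    exact hg

theorem simple_U : IsSimpleGroup U ∧ ¬ IsMulCommutative U := by
  have hs : IsSimpleGroup U :=
    Cfsg.Agent.S0283.result (F := Cfsg.Agent.SporRec.GF4.F4) (q := 2) rfl 6 (by norm_num) (by norm_num)
  refine ⟨hs, fun hc => ?_⟩
  have hb := Fi23Cover.center_eq_bot_of_simple hs (by
    rw [card_U]
    intro hp
    exact absurd ((Nat.prime_dvd_prime_iff_eq Nat.prime_two hp).1 (by norm_num)) (by norm_num))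
  have ht : center U = ⊤ := by
    rw [eq_top_iff]
    intro x _
    rw [mem_center_iff]
    intro g
    exact hc.is_comm.comm _ _
  exact absurd (hb.symm.trans ht) bot_ne_top

theorem core_bot_of_simple {V : Type*} [Group V] [Finite V] [IsSimpleGroup V] (h : 2 ∣ Nat.card V) :
    pPrimeCore 2 V = ⊥ := by
  have hc2 := Lib.Cores.pPrimeCore_coprime (G := V) 2
  rcases (pPrimeCore_normal 2 V).eq_bot_or_eq_top with h1 | h1
  · exact h1
  · exfalso
    rw [h1, card_top] at hc2
    have h4 := Nat.dvd_gcd h (dvd_refl 2)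
    rw [hc2.gcd_eq_one] at h4
    omega

theorem comm_za : (z0 : Fi23) * gen .a = gen .a * z0 := za.symm

theorem z0_one : (z0 : Fi23) ≠ 1 := by
  intro h
  apply z0_ncomm
  rw [h, one_mul, mul_one]

theorem at_two : At Fi23 W2 := by
  have hfin : Finite Fi23 := Nat.finite_of_card_ne_zero (by rw [card_Fi23]; norm_num)
  obtain ⟨hUs, hUna⟩ := simple_U
  obtain ⟨π, hπ, hk⟩ := exists_pi2
  have hfinU : Finite U := Nat.finite_of_card_ne_zero (by rw [card_U]; norm_num)
  have hz2 : z0 ∈ centralizer Ds2 := mem_cent2.2 ⟨rfl, comm_za⟩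
  have ha2 : gen .a ∈ centralizer Ds2 := mem_cent2.2 ⟨za, rfl⟩
  have hcard : Ds2.ncard ≤ 3 := by
    unfold Ds2
    exact (Set.ncard_insert_le _ _).trans (by rw [Set.ncard_singleton]; norm_num)
  obtain ⟨hN, hsol, hcen⟩ := Tower.tower_data (W := W2) (s := Ds2) (fun y hy x hx => perm2 hy hx) hcard
    (by rintro x (rfl | rfl); exacts [hz2, ha2]) (fun x hx => (hWD2 x hx).symm)
  have hsub : centralizer Ds2 ≤ centralizer ({W2} : Set Fi23) := by
    intro x hx
    rw [mem_cent2] at hx
    rw [mem_centralizer_singleton_iff]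
    unfold W2
    rw [← mul_assoc, hx.1, mul_assoc, hx.2, mul_assoc]
  have hker2 : IsPGroup 2 ↥(Tower.proj hsub π).ker := by
    intro x
    refine ⟨1, ?_⟩
    have h1 := (hk _).1 x.2
    have h2 : ((x : ↥((centralizer Ds2).subgroupOf (centralizer ({W2} : Set Fi23)))) : ↥(centralizer ({W2} : Set Fi23))).1 *
        ((x : ↥((centralizer Ds2).subgroupOf (centralizer ({W2} : Set Fi23)))) : ↥(centralizer ({W2} : Set Fi23))).1 = 1 := by
      rcases h1 with h1 | h1 | h1 | h1
      · have h3 : (x : ↥((centralizer Ds2).subgroupOf (centralizer ({W2} : Set Fi23)))).1.1 = 1 := h1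
        rw [h3, one_mul]
      · have h3 : (x : ↥((centralizer Ds2).subgroupOf (centralizer ({W2} : Set Fi23)))).1.1 = z0 := h1
        rw [h3, KFacts.FiTTh.Cent.zz]
      · have h3 : (x : ↥((centralizer Ds2).subgroupOf (centralizer ({W2} : Set Fi23)))).1.1 = gen .a := h1
        rw [h3, aa]
      · have h3 : (x : ↥((centralizer Ds2).subgroupOf (centralizer ({W2} : Set Fi23)))).1.1 = z0 * gen .a := h1
        rw [h3]
        calc z0 * gen .a * (z0 * gen .a) = z0 * (gen .a * z0) * gen .a := by group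
          _ = (z0 * z0) * (gen .a * gen .a) := by rw [za]; group
          _ = 1 := by rw [KFacts.FiTTh.Cent.zz, aa, one_mul]
    apply Subtype.ext
    apply Subtype.ext
    apply Subtype.ext
    rw [pow_one, pow_two]
    exact h2
  have hsolk : Group.IsSolvable ↥(Tower.proj hsub π).ker := by
    have : Fact (Nat.Prime 2) := ⟨Nat.prime_two⟩
    have := hker2.isNilpotent
    infer_instance
  refine ⟨?_, ?_⟩
  · rw [centralizerPPrimeCore_eq_bot_iff]
    exact Tower.core_bot hcen (Tower.proj hsub π) (Tower.proj_surjective hsub hπ) hker2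
      (core_bot_of_simple (by rw [card_U]; norm_num))
  · intro L hL
    have h1 := Tower.comp_simple hsol (Tower.proj hsub π) (Tower.proj_surjective hsub hπ) hsolk hUna hL.2
    exact (good_U h1).congr (subgroupOfEquivOfLe hL.1)

theorem three_data (hU : ∀ x : U, orderOf x = 2 → pPrimeCore 2 ↥(centralizer ({x} : Set U)) = ⊥ ∧
    ∀ L : Subgroup ↥(centralizer ({x} : Set U)), ¬ IsComponent L) : centralizerPPrimeCore 2 W3 = ⊥ ∧
    ∀ L : Subgroup Fi23, ¬ IsComponentOf L (centralizer ({W3} : Set Fi23)) := by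
  have hfin : Finite Fi23 := Nat.finite_of_card_ne_zero (by rw [card_Fi23]; norm_num)
  obtain ⟨hUs, hUna⟩ := simple_U
  obtain ⟨π, hπ, hk⟩ := exists_pi2
  have hfinU : Finite U := Nat.finite_of_card_ne_zero (by rw [card_U]; norm_num)
  have hz3 : z0 ∈ centralizer Ds3 := mem_cent3.2 ⟨rfl, comm_za, zc.symm⟩
  have ha3 : gen .a ∈ centralizer Ds3 := mem_cent3.2 ⟨za, rfl, ac⟩
  have hc3 : gen .c ∈ centralizer Ds3 := mem_cent3.2 ⟨zc, ac.symm, rfl⟩
  have hc2 : gen .c ∈ centralizer Ds2 := mem_cent2.2 ⟨zc, ac.symm⟩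
  have hcard : Ds3.ncard ≤ 3 := by
    unfold Ds3
    refine (Set.ncard_insert_le _ _).trans ?_
    have := Set.ncard_insert_le (gen .a : Fi23) {gen .c}
    rw [Set.ncard_singleton] at this
    omega
  obtain ⟨hN, hsol, hcen⟩ := Tower.tower_data (W := W3) (s := Ds3) (fun y hy x hx => perm3 hac hy hx) hcard
    (by rintro x (rfl | rfl | rfl); exacts [hz3, ha3, hc3]) (fun x hx => (hWD3 x hx).symm)
  have hsub : centralizer Ds3 ≤ centralizer ({W3} : Set Fi23) := by
    intro x hx
    rw [mem_cent3] at hx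
    rw [mem_centralizer_singleton_iff]
    unfold W3
    rw [← mul_assoc, ← mul_assoc, hx.1, mul_assoc z0, hx.2.1, mul_assoc, mul_assoc, hx.2.2]
    group
  have h32 : centralizer Ds3 ≤ centralizer Ds2 := by
    intro x hx
    rw [mem_cent3] at hx
    exact mem_cent2.2 ⟨hx.1, hx.2.1⟩
  -- the involution `c` of `U`
  set! c : U := π ⟨gen .c, hc2⟩ with hcdef
  have hco : orderOf c = 2 := by
    apply orderOf_eq_prime
    · rw [hcdef, ← map_pow]
      have h1 : (⟨gen .c, hc2⟩ : ↥(centralizer Ds2)) ^ 2 = 1 := by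
        apply Subtype.ext
        rw [pow_two]
        exact cc
      rw [h1, map_one]
    · intro h
      rcases (hk _).1 h with h1 | h1 | h1 | h1
      · have h2 : (gen .c : Fi23) = 1 := h1
        have h3 := isConj_gen card_le .c
        rw [h2, isConj_one_left] at h3
        exact z0_one h3
      · exact ne_gen_c h1
      · exact hac h1
      · have h2 : (gen .c : Fi23) = z0 * gen .a := h1
        apply not_conj2
        rw [← h2]
        exact isConj_gen card_le .c
  -- the projection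
  let f : ↥(centralizer Ds3) →* ↥(centralizer ({c} : Set U)) :=
    { toFun := fun x => ⟨π ⟨x, h32 x.2⟩, by
        rw [mem_centralizer_singleton_iff, hcdef, ← map_mul, ← map_mul]
        congr 1
        exact Subtype.ext (mem_cent3.1 x.2).2.2⟩
      map_one' := Subtype.ext ((map_one π :))
      map_mul' := fun x y => Subtype.ext (map_mul π ⟨x, h32 x.2⟩ ⟨y, h32 y.2⟩) }
  have hf : Function.Surjective f := by
    rintro ⟨u, hu⟩
    obtain ⟨⟨x, hx⟩, rfl⟩ := hπ u
    rw [mem_centralizer_singleton_iff, hcdef, ← map_mul, ← map_mul] at hu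
    have h1 : π ((⟨x, hx⟩ * ⟨gen .c, hc2⟩) * (⟨gen .c, hc2⟩ * ⟨x, hx⟩)⁻¹) = 1 := by
      rw [map_mul, map_inv, hu, mul_inv_cancel]
    have hci : (gen .c : Fi23)⁻¹ = gen .c := inv_eq_of_mul_eq_one_left cc
    have h2 := (hk _).1 h1
    have e1 : (((⟨x, hx⟩ * ⟨gen .c, hc2⟩) * (⟨gen .c, hc2⟩ * ⟨x, hx⟩)⁻¹ : ↥(centralizer Ds2)) : Fi23) =
        x * gen .c * x⁻¹ * gen .c := by
      show x * gen .c * (gen .c * x)⁻¹ = _
      rw [mul_inv_rev, hci]
      group
    rw [e1] at h2
    have e2 : ∀ w : Fi23, x * gen .c * x⁻¹ * gen .c = w → x * gen .c * x⁻¹ = w * gen .c := by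
      intro w hw
      rw [← hw, mul_assoc _ (gen .c) (gen .c), cc, mul_one]
    have hxc : x * gen .c = gen .c * x := by
      rcases h2 with h2 | h2 | h2 | h2
      · have h3 := e2 _ h2
        rw [one_mul, mul_inv_eq_iff_eq_mul] at h3
        exact h3
      · exact absurd (e2 _ h2) ne_c.1
      · exact absurd (e2 _ h2) ne_c.2.1
      · exact absurd (e2 _ h2) ne_c.2.2
    exact ⟨⟨x, mem_cent3.2 ⟨(mem_cent2.1 hx).1, (mem_cent2.1 hx).2, hxc⟩⟩, rfl⟩
  have hker2 : IsPGroup 2 ↥(Tower.proj hsub f).ker := by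
    intro x
    refine ⟨1, ?_⟩
    have h0 : π ⟨(x : ↥((centralizer Ds3).subgroupOf (centralizer ({W3} : Set Fi23)))).1.1, _⟩ = 1 :=
      congrArg Subtype.val x.2
    have h1 := (hk _).1 h0
    have h2 : ((x : ↥((centralizer Ds3).subgroupOf (centralizer ({W3} : Set Fi23)))) : ↥(centralizer ({W3} : Set Fi23))).1 *
        ((x : ↥((centralizer Ds3).subgroupOf (centralizer ({W3} : Set Fi23)))) : ↥(centralizer ({W3} : Set Fi23))).1 = 1 := by
      rcases h1 with h1 | h1 | h1 | h1
      · have h3 : (x : ↥((centralizer Ds3).subgroupOf (centralizer ({W3} : Set Fi23)))).1.1 = 1 := h1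
        rw [h3, one_mul]
      · have h3 : (x : ↥((centralizer Ds3).subgroupOf (centralizer ({W3} : Set Fi23)))).1.1 = z0 := h1
        rw [h3, KFacts.FiTTh.Cent.zz]
      · have h3 : (x : ↥((centralizer Ds3).subgroupOf (centralizer ({W3} : Set Fi23)))).1.1 = gen .a := h1
        rw [h3, aa]
      · have h3 : (x : ↥((centralizer Ds3).subgroupOf (centralizer ({W3} : Set Fi23)))).1.1 = z0 * gen .a := h1
        rw [h3]
        calc z0 * gen .a * (z0 * gen .a) = z0 * (gen .a * z0) * gen .a := by group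
          _ = (z0 * z0) * (gen .a * gen .a) := by rw [za]; group
          _ = 1 := by rw [KFacts.FiTTh.Cent.zz, aa, one_mul]
    apply Subtype.ext
    apply Subtype.ext
    apply Subtype.ext
    rw [pow_one, pow_two]
    exact h2
  have hsolk : Group.IsSolvable ↥(Tower.proj hsub f).ker := by
    have : Fact (Nat.Prime 2) := ⟨Nat.prime_two⟩
    have := hker2.isNilpotent
    infer_instance
  obtain ⟨hO, hL⟩ := hU c hco
  refine ⟨?_, ?_⟩
  · rw [centralizerPPrimeCore_eq_bot_iff]
    exact Tower.core_bot hcen (Tower.proj hsub f) (Tower.proj_surjective hsub hf) hker2 hO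
  · intro L hLc
    exact absurd hLc.2 (Tower.no_comp hsol (Tower.proj hsub f) (Tower.proj_surjective hsub hf) hsolk hL _)

theorem at_three (hU : ∀ x : U, orderOf x = 2 → pPrimeCore 2 ↥(centralizer ({x} : Set U)) = ⊥ ∧
    ∀ L : Subgroup ↥(centralizer ({x} : Set U)), ¬ IsComponent L) : At Fi23 W3 :=
  ⟨(three_data hU).1, fun L hL => absurd hL ((three_data hU).2 L)⟩

/-- **The row `Fi₂₃`** -/
theorem compC2_of (hU : ∀ x : U, orderOf x = 2 → pPrimeCore 2 ↥(centralizer ({x} : Set U)) = ⊥ ∧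
    ∀ L : Subgroup ↥(centralizer ({x} : Set U)), ¬ IsComponent L) : CompC2 Fi23 := by
  apply CompC2.mk_of_classes (fun s => s = z0 ∨ s = W2 ∨ s = W3)
  · intro t ht
    have h1 : t * t = 1 := by
      have := pow_orderOf_eq_one t
      rwa [ht, pow_two] at this
    have h2 : t ≠ 1 := by
      rintro rfl
      rw [orderOf_one] at ht
      omega
    rcases KFacts.FiTTh.Has.inv t h1 h2 with h | h | h
    · obtain ⟨g, hg⟩ := isConj_iff.1 h.symm
      exact ⟨g, z0, Or.inl rfl, hg.symm⟩
    · obtain ⟨g, hg⟩ := isConj_iff.1 h.symm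
      exact ⟨g, W2, Or.inr (Or.inl rfl), hg.symm⟩
    · obtain ⟨g, hg⟩ := isConj_iff.1 h.symm
      exact ⟨g, W3, Or.inr (Or.inr rfl), hg.symm⟩
  · rintro s (rfl | rfl | rfl)
    · exact at_one
    · exact at_two
    · exact at_three hU

end Cfsg.Agent.CTwoTab.Fi23

end

-- merged: Cfsg.Agent.CTwoTab.Fi23Res
section

/-!
# `Fi₂₃`: components of involution centralizers, restricted even type (helper96)

* `comp_iso` : a component `K` of `C(t)`, `t` an involution of `Fi₂₃`, is `2.Fi₂₂`, or `K / Z(K) ≅ U₆(2)` and `|K|`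
  divides `4 |U₆(2)|`;
* `compCard`, `noSpec`, `rank`, `restricted_of`.

The hypothesis `hU` (the involution centralizers of `U₆(2)` have characteristic 2) is discharged in `Fi23Fin`.
-/

set_option autoImplicit false
set_option maxRecDepth 100000

namespace Cfsg.Agent.CTwoTab.Fi23Res

open Subgroup Cfsg
open Cfsg.Agent.Fischer.Fi23Z Cfsg.Agent.Fischer.Fi23Hom
open Cfsg.Agent.Fischer Cfsg.Agent.Fischer.Fi23Class Cfsg.Agent.Fischer.Fi23Simple
open Cfsg.Agent.KFacts.FiTTh.Cent
open Cfsg.Spor Cfsg.Spor.Fi23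
open Cfsg.Agent.CTwoTab.Fi23

/-- the condition on `U₆(2)` -/
def HU : Prop := ∀ x : U, orderOf x = 2 → pPrimeCore 2 ↥(centralizer ({x} : Set U)) = ⊥ ∧
    ∀ L : Subgroup ↥(centralizer ({x} : Set U)), ¬ IsComponent L

theorem finite_Fi23 : Finite Fi23 := Nat.finite_of_card_ne_zero (by rw [card_Fi23]; norm_num)

/-- `C(z0, a)` has order dividing `4 |U₆(2)|` -/
theorem card_cent_dvd : Nat.card ↥(centralizer Ds2) ∣ 4 * 9196830720 := by
  have := finite_Fi23
  have h := card_C2
  have h1 : Nat.card C2 = 4 * 9196830720 := by omega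
  rw [← h1]
  apply card_dvd_of_le
  intro x hx
  rw [mem_cent2] at hx
  obtain ⟨ka, hka, hpa⟩ := exists_a
  refine ⟨?_, ?_⟩
  · have h2 := (fixes_iff x 1).2 (by simpa only [_root_.one_mul, _root_.inv_one, _root_.mul_one] using hx.1)
    simpa only [_root_.map_one, _root_.Equiv.Perm.coe_one, _root_.id_eq] using h2
  · have h2 := (fixes_iff x ka).2 (by rw [hka]; exact hx.2)
    rw [hpa] at h2
    exact h2

theorem comp_two {L : Subgroup Fi23} (hL : IsComponentOf L (centralizer ({W2} : Set Fi23))) :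
    Nonempty (↥L ⧸ center ↥L ≃* U) ∧ Nat.card ↥L ∣ 4 * 9196830720 := by
  have hfin := finite_Fi23
  obtain ⟨hUs, hUna⟩ := simple_U
  obtain ⟨π, hπ, hk⟩ := exists_pi2
  have hz2 : z0 ∈ centralizer Ds2 := mem_cent2.2 ⟨rfl, comm_za⟩
  have ha2 : gen .a ∈ centralizer Ds2 := mem_cent2.2 ⟨za, rfl⟩
  have hcard : Ds2.ncard ≤ 3 := by
    unfold Ds2
    exact (Set.ncard_insert_le _ _).trans (by rw [Set.ncard_singleton]; norm_num)
  obtain ⟨hN, hsol, hcen⟩ := Tower.tower_data (W := W2) (s := Ds2) (fun y hy x hx => perm2 hy hx) hcard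
    (by rintro x (rfl | rfl); exacts [hz2, ha2]) (fun x hx => (hWD2 x hx).symm)
  have hsub : centralizer Ds2 ≤ centralizer ({W2} : Set Fi23) := by
    intro x hx
    rw [mem_cent2] at hx
    rw [mem_centralizer_singleton_iff]
    unfold W2
    rw [← mul_assoc, hx.1, mul_assoc, hx.2, mul_assoc]
  have hker2 : IsPGroup 2 ↥(Tower.proj hsub π).ker := by
    intro x
    refine ⟨1, ?_⟩
    have h1 := (hk _).1 x.2
    have h2 : ((x : ↥((centralizer Ds2).subgroupOf (centralizer ({W2} : Set Fi23)))) : ↥(centralizer ({W2} : Set Fi23))).1 *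
        ((x : ↥((centralizer Ds2).subgroupOf (centralizer ({W2} : Set Fi23)))) : ↥(centralizer ({W2} : Set Fi23))).1 = 1 := by
      rcases h1 with h1 | h1 | h1 | h1
      · have h3 : (x : ↥((centralizer Ds2).subgroupOf (centralizer ({W2} : Set Fi23)))).1.1 = 1 := h1
        rw [h3, one_mul]
      · have h3 : (x : ↥((centralizer Ds2).subgroupOf (centralizer ({W2} : Set Fi23)))).1.1 = z0 := h1
        rw [h3, KFacts.FiTTh.Cent.zz]
      · have h3 : (x : ↥((centralizer Ds2).subgroupOf (centralizer ({W2} : Set Fi23)))).1.1 = gen .a := h1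
        rw [h3, aa]
      · have h3 : (x : ↥((centralizer Ds2).subgroupOf (centralizer ({W2} : Set Fi23)))).1.1 = z0 * gen .a := h1
        rw [h3]
        calc z0 * gen .a * (z0 * gen .a) = z0 * (gen .a * z0) * gen .a := by group
          _ = (z0 * z0) * (gen .a * gen .a) := by rw [za]; group
          _ = 1 := by rw [KFacts.FiTTh.Cent.zz, aa, one_mul]
    apply Subtype.ext
    apply Subtype.ext
    apply Subtype.ext
    rw [pow_one, pow_two]
    exact h2
  have hsolk : Group.IsSolvable ↥(Tower.proj hsub π).ker := by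
    have : Fact (Nat.Prime 2) := ⟨Nat.prime_two⟩
    have := hker2.isNilpotent
    infer_instance
  obtain ⟨e⟩ := Tower.comp_simple hsol (Tower.proj hsub π) (Tower.proj_surjective hsub hπ) hsolk hUna hL.2
  refine ⟨⟨(quoEquiv (subgroupOfEquivOfLe hL.1)).symm.trans e⟩, ?_⟩
  have h3 := Tower.le_of_perfect hsol hL.2.2.1
  have h4 : Nat.card ↥L ∣ Nat.card ↥(centralizer Ds2) := by
    apply card_dvd_of_le
    intro x hx
    have h5 : (⟨x, hL.1 hx⟩ : ↥(centralizer ({W2} : Set Fi23))) ∈ L.subgroupOf (centralizer ({W2} : Set Fi23)) :=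
      mem_subgroupOf.2 hx
    exact mem_subgroupOf.1 (h3 h5)
  exact h4.trans card_cent_dvd

theorem comp_one {L : Subgroup Fi23} (hL : IsComponentOf L (centralizer ({z0} : Set Fi23))) :
    Nonempty (↥L ⧸ center ↥L ≃* Fi22) ∧ Nat.card ↥L = 2 * 64561751654400 := by
  obtain ⟨-, ⟨e⟩, -⟩ := KFacts.FiTTh.Quasi.cover
  have h1 : L = centralizer ({z0} : Set Fi23) := comp_eq_of_le KFacts.FiTTh.Quasi.qs le_rfl hL hL.1
  subst h1
  rw [← K_eq]
  exact ⟨⟨e⟩, card_K⟩


/-- **The components** of the involution centralizers -/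
theorem comp_iso (hU : HU) {t : Fi23} (ht : orderOf t = 2) {K : Subgroup Fi23}
    (hK : IsComponentOf K (centralizer ({t} : Set Fi23))) :
    (Nonempty (↥K ⧸ center ↥K ≃* Fi22) ∧ Nat.card ↥K = 2 * 64561751654400) ∨
      (Nonempty (↥K ⧸ center ↥K ≃* U) ∧ Nat.card ↥K ∣ 4 * 9196830720) := by
  have h1 : t * t = 1 := by
    have := pow_orderOf_eq_one t
    rwa [ht, pow_two] at this
  have h2 : t ≠ 1 := by
    rintro rfl
    rw [orderOf_one] at ht
    omega
  -- transport to a class representative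
  have key : ∀ W g : Fi23, g * t * g⁻¹ = W →
      ∃ L : Subgroup Fi23, IsComponentOf L (centralizer ({W} : Set Fi23)) ∧ Nonempty (↥K ≃* ↥L) := by
    intro W g hg
    have h3 := isComponentOf_map (MulAut.conj g) hK
    rw [map_centralizer_singleton, MulAut.conj_apply, hg] at h3
    exact ⟨_, h3, ⟨subMap (MulAut.conj g) K⟩⟩
  rcases KFacts.FiTTh.Has.inv t h1 h2 with h | h | h
  · obtain ⟨g, hg⟩ := isConj_iff.1 h
    obtain ⟨L, hL, ⟨e⟩⟩ := key z0 g hg
    obtain ⟨⟨f⟩, hc⟩ := comp_one hL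
    exact Or.inl ⟨⟨(quoEquiv e).trans f⟩, (Nat.card_congr e.toEquiv).trans hc⟩
  · obtain ⟨g, hg⟩ := isConj_iff.1 h
    obtain ⟨L, hL, ⟨e⟩⟩ := key W2 g hg
    obtain ⟨⟨f⟩, hc⟩ := comp_two hL
    exact Or.inr ⟨⟨(quoEquiv e).trans f⟩, by rw [Nat.card_congr e.toEquiv]; exact hc⟩
  · obtain ⟨g, hg⟩ := isConj_iff.1 h
    obtain ⟨L, hL, -⟩ := key W3 g hg
    exact absurd hL ((three_data hU).2 L)

/-- the orders of the components -/
theorem compCard (hU : HU) : CompCard (fun n m => (n = 2 * 64561751654400 ∧ m = 64561751654400) ∨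
    (m = 9196830720 ∧ (n = 9196830720 ∨ n = 2 * 9196830720 ∨ n = 4 * 9196830720))) Fi23 := by
  intro t ht K hK
  rcases comp_iso hU ht hK with ⟨⟨e⟩, h⟩ | ⟨⟨e⟩, h⟩
  · exact Or.inl ⟨h, (Nat.card_congr e.toEquiv).trans Cfsg.Agent.S1696.result.2⟩
  · right
    have hm : Nat.card (↥K ⧸ center ↥K) = 9196830720 := (Nat.card_congr e.toEquiv).trans card_U
    refine ⟨hm, ?_⟩
    have h1 : Nat.card (↥K ⧸ center ↥K) * Nat.card (center ↥K) = Nat.card ↥K :=
      (Subgroup.card_eq_card_quotient_mul_card_subgroup _).symm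
    rw [hm] at h1
    have h2 : Nat.card (center ↥K) ∣ 4 := by
      rw [← h1, mul_comm 4] at h
      exact Nat.dvd_of_mul_dvd_mul_left (by norm_num) h
    have h3 : Nat.card (center ↥K) = 1 ∨ Nat.card (center ↥K) = 2 ∨ Nat.card (center ↥K) = 4 := by
      obtain ⟨k, hk, h4⟩ := (Nat.dvd_prime_pow (p := 2) Nat.prime_two (m := 2)).1 (by simpa only [_root_.Nat.reducePow] using h2)
      interval_cases k
      · exact Or.inl (by simpa only [_root_.Subgroup.card_eq_one, _root_.pow_zero] using h4)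
      · exact Or.inr (Or.inl (by simpa only [_root_.pow_one] using h4))
      · exact Or.inr (Or.inr (by simpa only [_root_.Nat.reducePow] using h4))
    rw [← h1]
    rcases h3 with h3 | h3 | h3 <;> rw [h3] <;> norm_num

/-- the orders exclude the special components -/
theorem special : ∀ n m : ℕ, ((n = 2 * 64561751654400 ∧ m = 64561751654400) ∨
    (m = 9196830720 ∧ (n = 9196830720 ∨ n = 2 * 9196830720 ∨ n = 4 * 9196830720))) →
    (∀ q : ℕ, 2 * n ≠ q * (q ^ 2 - 1)) ∧ m ≠ 20160 := by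
  rintro n m (⟨rfl, rfl⟩ | ⟨rfl, rfl | rfl | rfl⟩)
  · exact ⟨ne_of_between 63681 (by norm_num) (by norm_num) (by norm_num), by norm_num⟩
  · exact ⟨ne_of_between 2639 (by norm_num) (by norm_num) (by norm_num), by norm_num⟩
  · exact ⟨ne_of_between 3325 (by norm_num) (by norm_num) (by norm_num), by norm_num⟩
  · exact ⟨ne_of_between 4190 (by norm_num) (by norm_num) (by norm_num), by norm_num⟩

/-- no component is special in the definition of restricted even type -/
theorem noSpec (hU : HU) (x : Fi23) (K : Subgroup Fi23) (hx : orderOf x = 2)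
    (hK : IsComponentOf K (centralizer ({x} : Set Fi23))) : SevenCases.NoSpec ↥K := by
  obtain ⟨h1, h2⟩ := special _ _ (compCard hU x hx K hK)
  refine ⟨?_, ?_⟩
  · rintro ⟨F, _, _, hF, ⟨e⟩⟩
    have h3 := SevenCases.two_mul_card_PSL_two F (SevenCases.odd_of_fm9 hF)
    rw [← Nat.card_congr e.toEquiv] at h3
    exact h1 _ h3
  · rintro ⟨F, _, _, hF, ⟨e⟩⟩
    exact h2 ((Nat.card_congr e.toEquiv).trans (card_PSL_three F hF))

/-- the 2-rank is at least 3 -/
theorem rank : PRankAtLeast 2 3 Fi23 := by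
  have hza : z0 * gen .a ≠ (1 : Fi23) := by
    intro h
    have h1 : gen .a = (z0 : Fi23) := by
      calc (gen .a : Fi23) = z0 * z0 * gen .a := by rw [KFacts.FiTTh.Cent.zz, one_mul]
        _ = z0 * (z0 * gen .a) := by group
        _ = z0 := by rw [h, mul_one]
    exact ne_gen_a h1
  have hzc : z0 * gen .c ≠ (1 : Fi23) := by
    intro h
    have h1 : gen .c = (z0 : Fi23) := by
      calc (gen .c : Fi23) = z0 * z0 * gen .c := by rw [KFacts.FiTTh.Cent.zz, one_mul]
        _ = z0 * (z0 * gen .c) := by group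
        _ = z0 := by rw [h, mul_one]
    exact ne_gen_c h1
  have hacne : gen .a * gen .c ≠ (1 : Fi23) := by
    intro h
    have h1 : gen .c = (gen .a : Fi23) := by
      calc (gen .c : Fi23) = gen .a * gen .a * gen .c := by rw [aa, one_mul]
        _ = gen .a * (gen .a * gen .c) := by group
        _ = gen .a := by rw [h, mul_one]
    exact hac h1
  have hg : ∀ x : Gen, (gen x : Fi23) ≠ 1 := by
    intro x h
    have h1 := isConj_gen card_le x
    rw [h, isConj_one_left] at h1
    exact z0_one h1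
  refine rank_of_three (x := z0) (y := gen .a) (z := gen .c) KFacts.FiTTh.Cent.zz aa cc comm_za zc.symm ac z0_one (hg _)
    (hg _) hza hzc hacne ?_
  intro h
  apply not_conj2
  have h1 : z0 * gen .a = (gen .c : Fi23) := by
    calc z0 * gen .a = z0 * gen .a * gen .c * gen .c := by rw [mul_assoc _ (gen .c) (gen .c), cc, mul_one]
      _ = gen .c := by rw [h, one_mul]
  rw [h1]
  exact isConj_gen card_le .c

/-- **`Fi₂₃` is of restricted even type** (from the condition on `U₆(2)`). -/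
theorem restricted_of (hU : HU) {G : Type*} [Group G] [Finite G] (h : Spor.IsoFi23 G) : IsOfRestrictedEvenType G := by
  obtain ⟨e⟩ := h
  exact restricted ((compC2_of hU).of_equiv e.symm) (RankThreeTwo.Base.congr e rank) ((compCard hU).of_equiv e.symm)
    special

end Cfsg.Agent.CTwoTab.Fi23Res

end

-- merged: Cfsg.Agent.CTwoTab.Fi23Fin
section

/-!
# The row `Fi₂₃`, final form (helper96)

* `cent_of_charTwo` : in a group of characteristic 2 type `O(C(x)) = 1` and `C(x)` has no component;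
* `compC2`, `noSpec`, `restricted_fi23`.
-/

set_option autoImplicit false

namespace Cfsg.Agent.CTwoTab.Fi23Fin

open Subgroup Cfsg
open Cfsg.Agent.CTwoTab.Fi23 Cfsg.Agent.CTwoTab.Fi23Res

/-- in a group of characteristic 2 type `O(C(x)) = 1` and `C(x)` has no component -/
theorem cent_of_charTwo {G : Type*} [Group G] [Finite G] (h : IsCharacteristicTwoType G) {x : G}
    (hx : orderOf x = 2) : pPrimeCore 2 ↥(centralizer ({x} : Set G)) = ⊥ ∧
    ∀ L : Subgroup ↥(centralizer ({x} : Set G)), ¬ IsComponent L := by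
  have : Fact (Nat.Prime 2) := ⟨Nat.prime_two⟩
  have hP : IsPGroup 2 ↥(zpowers x) := by
    rw [IsPGroup.iff_card]
    exact ⟨1, by rw [Nat.card_zpowers, hx, pow_one]⟩
  have hP1 : zpowers x ≠ ⊥ := by
    rw [Ne, zpowers_eq_bot]
    rintro rfl
    rw [orderOf_one] at hx
    omega
  have hN : normalizer (zpowers x : Set G) = centralizer ({x} : Set G) := by
    ext g
    rw [mem_centralizer_singleton_iff]
    constructor
    · intro hg
      have h1 : g * x * g⁻¹ ∈ zpowers x := (mem_normalizer_iff.1 hg x).1 (mem_zpowers x)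
      have h2 : g * x * g⁻¹ = x := by
        rw [mem_zpowers_iff] at h1
        obtain ⟨k, hk⟩ := h1
        have h3 : x ^ (2 : ℤ) = 1 := by
          have := pow_orderOf_eq_one x
          rw [hx] at this
          exact_mod_cast this
        rcases Int.even_or_odd' k with ⟨m, rfl | rfl⟩
        · exfalso
          rw [zpow_mul, h3, one_zpow] at hk
          have h4 : x = 1 := by
            have : g * x * g⁻¹ = 1 := hk.symm
            rw [mul_inv_eq_one] at this
            exact mul_left_cancel (this.trans (mul_one g).symm)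
          rw [h4, orderOf_one] at hx
          omega
        · rw [zpow_add, zpow_mul, h3, one_zpow, one_mul, zpow_one] at hk
          exact hk.symm
      exact mul_inv_eq_iff_eq_mul.1 h2
    · intro hg
      apply centralizer_le_normalizer
      rw [mem_centralizer_iff]
      intro y hy
      obtain ⟨k, rfl⟩ := mem_zpowers_iff.1 hy
      exact ((show Commute g x from hg).zpow_right k).symm.eq
  have h1 := h.2 _ hP hP1
  rw [hN] at h1
  set C := centralizer ({x} : Set G) with hC
  -- `R = O_2(C)` in `G`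
  have hn := Lib.Cores.pCore_normal (G := ↥C) 2
  set! R : Subgroup G := (pCore 2 ↥C).map C.subtype with hR
  have hRC : R ≤ C := map_subtype_le _
  have hnR : ∀ c ∈ C, ∀ r ∈ R, c * r * c⁻¹ ∈ R := by
    rintro c hc _ ⟨r, hr, rfl⟩
    exact ⟨(⟨c, hc⟩ * r * ⟨c, hc⟩⁻¹ :), hn.conj_mem r hr _, rfl⟩
  have hpR : IsPGroup 2 ↥R := (Lib.Cores.pCore_isPGroup (G := ↥C) 2).map _
  have hcR : ∀ c ∈ C, (∀ r ∈ R, c * r = r * c) → c ∈ R := by
    intro c hc hcr
    have h2 : (⟨c, hc⟩ : ↥C) ∈ pCore 2 ↥C := by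
      apply h1
      rw [mem_centralizer_iff]
      intro r hr
      exact Subtype.ext (hcr r ⟨r, hr, rfl⟩).symm
    exact ⟨_, h2, rfl⟩
  refine ⟨core_of_pGroup hRC hnR hpR hcR, ?_⟩
  intro L hL
  have h2 : IsComponentOf (L.map C.subtype) C := by
    refine ⟨map_subtype_le _, ?_⟩
    have h3 : (L.map C.subtype).subgroupOf C = L := by
      rw [subgroupOf, comap_map_eq_self_of_injective (subtype_injective _)]
    rw [h3]
    exact hL
  exact no_comp_of_pGroup hRC hnR hpR hcR _ h2

/-- the involution centralizers of `U₆(2)` -/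
theorem hU : HU := by
  obtain ⟨hUs, hUna⟩ := simple_U
  have hfin : Finite U := Nat.finite_of_card_ne_zero (by rw [card_U]; norm_num)
  have : Fact (Nat.Prime 2) := ⟨Nat.prime_two⟩
  have h1 : IsPSUChar 2 U := ⟨Cfsg.Agent.SporRec.GF4.F4, inferInstance, inferInstance,
    charP_of_card_eq_prime_pow (f := 2) rfl, 6, 2, rfl, by decide, by decide, ⟨MulEquiv.refl _⟩⟩
  have h2 := KFacts.RgdFiltClass.hasFilt_of_PSU h1
  have hne : ∃ a b : U, a * b ≠ b * a := by
    by_contra hcon
    push Not at hcon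
    exact hUna ⟨⟨hcon⟩⟩
  intro x hx
  exact cent_of_charTwo (h2.charTwo hne) hx

/-- **The row `Fi₂₃`** -/
theorem compC2 : CompC2 Spor.Fi23 := compC2_of hU

theorem noSpec (x : Spor.Fi23) (K : Subgroup Spor.Fi23) (hx : orderOf x = 2)
    (hK : IsComponentOf K (centralizer ({x} : Set Spor.Fi23))) : SevenCases.NoSpec ↥K := Fi23Res.noSpec hU x K hx hK

/-- **`Fi₂₃` is of restricted even type** -/
theorem restricted_fi23 {G : Type*} [Group G] [Finite G] (h : Spor.IsoFi23 G) : IsOfRestrictedEvenType G :=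
  restricted_of hU h

end Cfsg.Agent.CTwoTab.Fi23Fin

end
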