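import Cfsg.Agent.CTwoTab.Base
import Cfsg.Agent.CTwoTab.Exc
import Cfsg.Agent.CTwoTab.Restr
import Cfsg.Agent.OddHalf.D4.Spor.HN_m3
import Cfsg.Agent.KFacts.HN.Sheet
import Cfsg.Agent.KFacts.MulFi24.Double
import Cfsg.Agent.FastGrp
import Cfsg.Agent.Prune
set_option linter.all false
prune_inst 0x7f00000000000000000000000000000000000000000000000000000000000000000000000000000000000000000000000000000000000000000000000000000000000000000000000000000000000000003fffffffffffffffffffffffffffbeffbdffffffff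
open scoped Cfsg.Agent.FastGrp

/-!
# Components of the involution centralizers of the Harada-Norton group (helper29)

* `compC2` : the only component is `2.HS` (in the centralizer `2.HS.2` of an involution of the class 2A).
* `classes`, `no_comp_W0`, `comp_Q0`, `comp_iso`, `compCard` : the components;
* `rank` : the 2-rank is at least 3;  `restricted_hn` : restricted even type.
-/

set_option autoImplicit false

namespace Cfsg.Agent.CTwoTab.HN

open Subgroup Cfsg Cfsg.Agent.KFacts.HN Cfsg.Agent.HN.XWords Cfsg.Agent.HN.XStruct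
open Cfsg.Agent.HN Cfsg.Agent.HN.Pres Cfsg.Agent.HN.P1408 Cfsg.Agent.HN.H0Basic
open scoped commutatorElement

/-! ### the 2-central class -/

theorem at_W0 : At Cfsg.Spor.HN W0 := by
  have := finite_HN
  refine At.of_pGroup (R := RS) RS_le_PP (fun c hc r hr => conj_RS hc hr) RS_isPGroup ?_
  intro c _ h
  rcases cent_RS h with h1 | h1 <;> rw [h1]
  · exact RS.one_mem
  · exact W0_mem_RS

/-! ### `2.HS` -/

theorem dbl : IsNonsplitDoubleCover HS100.K Cfsg.Spor.HS :=
  ⟨by rw [DoubleCover.center_K card_H0 gx_sq_ne_one, DoubleCover.card_ker card_H0 gx_sq_ne_one],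
    DoubleCover.nonempty_quot card_H0 gx_sq_ne_one, DoubleCover.no_complement card_H0 gx_sq_ne_one⟩

theorem simple_HS : IsSimpleGroup Cfsg.Spor.HS := by
  obtain ⟨⟨f⟩, hs⟩ := DoubleCover.nonempty_Q card_H0 gx_sq_ne_one
  have : Nontrivial Cfsg.Spor.HS := f.symm.toEquiv.nontrivial
  exact IsSimpleGroup.isSimpleGroup_of_surjective f.toMonoidHom f.surjective

theorem card_HS : Nat.card Cfsg.Spor.HS = 44352000 := by
  obtain ⟨⟨f⟩, -⟩ := DoubleCover.nonempty_Q card_H0 gx_sq_ne_one
  rw [← Nat.card_congr f.toEquiv, DoubleCover.card_Q card_H0 gx_sq_ne_one]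

theorem perfect_HS : commutator Cfsg.Spor.HS = ⊤ := by
  have := simple_HS
  rcases simple_HS.eq_bot_or_eq_top_of_normal (commutator Cfsg.Spor.HS) inferInstance with h | h
  · exfalso
    have h2 : ∀ a b : Cfsg.Spor.HS, a * b = b * a := by
      intro a b
      have : ⁅a, b⁆ ∈ commutator Cfsg.Spor.HS := Subgroup.commutator_mem_commutator (Subgroup.mem_top a)
        (Subgroup.mem_top b)
      rw [h, Subgroup.mem_bot] at this
      exact commutatorElement_eq_one_iff_mul_comm.1 this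
    let _ : CommGroup Cfsg.Spor.HS := { (inferInstance : Group Cfsg.Spor.HS) with mul_comm := h2 }
    have : Finite Cfsg.Spor.HS := Nat.finite_of_card_ne_zero (by rw [card_HS]; norm_num)
    have hp := IsSimpleGroup.prime_card (α := Cfsg.Spor.HS)
    rw [card_HS] at hp
    exact absurd hp (by norm_num)
  · exact h

theorem card_K : Nat.card HS100.K = 88704000 := DoubleCover.card_K card_H0

theorem qs_K : IsQuasisimple HS100.K := by
  refine ⟨⟨Cfsg.Agent.KFacts.MulFi24.Double.perfect_of_double dbl perfect_HS⟩, ?_⟩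
  obtain ⟨-, ⟨e⟩, -⟩ := dbl
  have := simple_HS
  have : Nontrivial (HS100.K ⧸ center HS100.K) := e.toEquiv.nontrivial
  exact IsSimpleGroup.isSimpleGroup_of_surjective e.symm.toMonoidHom e.symm.surjective

theorem quo_equiv : Nonempty (HS100.K ⧸ center HS100.K ≃* Cfsg.Spor.HS) := dbl.2.1

theorem card_quo : Nat.card (HS100.K ⧸ center HS100.K) = 44352000 := by
  obtain ⟨e⟩ := quo_equiv
  rw [Nat.card_congr e.toEquiv, card_HS]

theorem good_K : Good HS100.K := by
  refine ⟨Or.inr (Or.inr (Or.inl ⟨rfl, Or.inr (Or.inr (Or.inr ?_))⟩)), ?_⟩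
  · obtain ⟨-, h, -⟩ := dbl
    exact Or.inr (Or.inr (Or.inr (Or.inr (Or.inr (Or.inr (Or.inr (Or.inr (Or.inl h))))))))
  · exact not_exc_of_card card_K 445 (by norm_num) (by norm_num) (by norm_num) (by rw [card_quo]; norm_num)
      (by norm_num) (by norm_num) (by norm_num)

/-- `2.HS ≤ C(Q 0)` -/
noncomputable def N : Subgroup Cfsg.Spor.HN := HS100.K.map NormalH.ψ

noncomputable def eN : HS100.K ≃* N := HS100.K.equivMapOfInjective NormalH.ψ emb.inj

theorem N_le : N ≤ centralizer ({Q 0} : Set Cfsg.Spor.HN) := by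
  rintro _ ⟨u, -, rfl⟩
  exact mem_centralizer_singleton_iff.2 (comm_of_ψ u)

/-- a perfect subgroup of `C(Q 0)` is contained in `2.HS` -/
theorem le_N (P : Subgroup Cfsg.Spor.HN) (hP : P ≤ centralizer ({Q 0} : Set Cfsg.Spor.HN)) (hp : ⁅P, P⁆ = P) :
    P ≤ N := by
  have hPr : P ≤ NormalH.ψ.range := fun x hx => mem_range_of_comm (mem_centralizer_singleton_iff.1 (hP hx))
  have h1 : (P.comap NormalH.ψ).map NormalH.ψ = P := map_comap_eq_self hPr
  have h2 : ⁅P.comap NormalH.ψ, P.comap NormalH.ψ⁆ = P.comap NormalH.ψ := by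
    apply Subgroup.map_injective emb.inj
    rw [Subgroup.map_commutator, h1, hp]
  have h3 : P.comap NormalH.ψ ≤ HS100.K := by
    have hK : HS100.K.Normal := HS100.K_normal
    have h4 : ∀ a b : H0, ⁅a, b⁆ ∈ HS100.K := by
      intro a b
      rw [commutatorElement_def]
      change Equiv.Perm.sign (HS100.φ (a * b * a⁻¹ * b⁻¹)) = 1
      rw [map_mul, map_mul, map_mul, map_inv, map_inv, map_mul, map_mul, map_mul, map_inv, map_inv]
      rw [mul_comm (Equiv.Perm.sign (HS100.φ a)), mul_assoc _ (Equiv.Perm.sign (HS100.φ a)), mul_inv_cancel, mul_one,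
        mul_inv_cancel]
    rw [← h2, commutator_le]
    intro a _ b _
    exact h4 a b
  rw [← h1]
  exact map_mono h3

theorem at_Q0 : At Cfsg.Spor.HN (Q 0) := by
  have := finite_HN
  refine At.of_comp (N := N) ?_ (SignalizersComponents.Components.isQuasisimple_of_mulEquiv eN qs_K) N_le
    le_N (good_K.congr eN)
  rw [centralizerPPrimeCore_eq_bot_iff]
  have hN : (pPrimeCore 2 ↥(centralizer ({Q 0} : Set Cfsg.Spor.HN))).Normal := Lib.Cores.pPrimeCore_normal 2
  have hodd : (Nat.card ↥(pPrimeCore 2 ↥(centralizer ({Q 0} : Set Cfsg.Spor.HN)))).Coprime 2 :=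
    Lib.Cores.pPrimeCore_coprime 2
  have h1 := OddHalf.D4.Spor.HN.bal_Q0
    ((pPrimeCore 2 ↥(centralizer ({Q 0} : Set Cfsg.Spor.HN))).map (centralizer ({Q 0} : Set Cfsg.Spor.HN)).subtype)
    (by
      rintro _ ⟨i, -, rfl⟩
      exact mem_centralizer_singleton_iff.1 i.2)
    (by
      rintro c hc _ ⟨i, hi, rfl⟩
      exact ⟨(⟨c, mem_centralizer_singleton_iff.2 hc⟩ * i * ⟨c, mem_centralizer_singleton_iff.2 hc⟩⁻¹ :),
        hN.conj_mem i hi _, rfl⟩)
    (by
      rw [card_map_of_injective (Subgroup.subtype_injective _)]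
      rw [Nat.coprime_two_right] at hodd
      exact hodd)
  exact (map_eq_bot_iff_of_injective _ (Subgroup.subtype_injective _)).1 h1

/-- **The row of the Harada-Norton group.** -/
theorem compC2 : CompC2 Cfsg.Spor.HN := by
  refine CompC2.mk_of_classes (fun s => s = W0 ∨ s = Q 0) ?_ ?_
  · intro t ht
    have h1 : t * t = 1 := by rw [← pow_two, ← ht, pow_orderOf_eq_one]
    have h2 : t ≠ 1 := fun h => by rw [h, orderOf_one] at ht; omega
    rcases OddHalf.D4.Spor.HN.inv_cases h1 h2 with ⟨g, hg⟩ | ⟨g, hg⟩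
    · exact ⟨g, W0, Or.inl rfl, hg.symm⟩
    · exact ⟨g, Q 0, Or.inr rfl, hg.symm⟩
  · rintro s (rfl | rfl)
    · exact at_W0
    · exact at_Q0

/-- the groups isomorphic to the Harada-Norton group -/
theorem compC2_of_iso {X : Type*} [Group X] (h : Spor.IsoHN X) : CompC2 X := by
  obtain ⟨e⟩ := h
  exact compC2.of_equiv e.symm

/-! ### The components -/

/-- no component of `C(W0)` -/
theorem no_comp_W0 (K : Subgroup Cfsg.Spor.HN) : ¬ IsComponentOf K (centralizer ({W0} : Set Cfsg.Spor.HN)) := by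
  have := finite_HN
  have : Fact (Nat.Prime 2) := ⟨Nat.prime_two⟩
  refine no_comp_of_pGroup (R := RS) (p := 2) RS_le_PP (fun c hc r hr => conj_RS hc hr) RS_isPGroup ?_ K
  intro c _ h
  rcases cent_RS h with h1 | h1 <;> rw [h1]
  · exact RS.one_mem
  · exact W0_mem_RS

theorem qs_N : IsQuasisimple ↥N := SignalizersComponents.Components.isQuasisimple_of_mulEquiv eN qs_K

/-- the component of `C(Q 0)` -/
theorem comp_Q0 {K : Subgroup Cfsg.Spor.HN} (hK : IsComponentOf K (centralizer ({Q 0} : Set Cfsg.Spor.HN))) :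
    K = N := by
  have := finite_HN
  exact comp_eq qs_N N_le le_N hK

/-- the components: `K ≅ 2.HS` -/
theorem comp_iso {t : Cfsg.Spor.HN} (ht : orderOf t = 2) {K : Subgroup Cfsg.Spor.HN}
    (hK : IsComponentOf K (centralizer ({t} : Set Cfsg.Spor.HN))) : Nonempty (↥K ≃* HS100.K) := by
  have h1 : t * t = 1 := by rw [← pow_two, ← ht, pow_orderOf_eq_one]
  have h2 : t ≠ 1 := fun h => by rw [h, orderOf_one] at ht; omega
  rcases OddHalf.D4.Spor.HN.inv_cases h1 h2 with ⟨g, rfl⟩ | ⟨g, rfl⟩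
  · exfalso
    have h1 := isComponentOf_map (MulAut.conj g⁻¹) hK
    rw [map_centralizer_singleton] at h1
    have h2 : MulAut.conj g⁻¹ (g * W0 * g⁻¹) = W0 := by
      rw [MulAut.conj_apply]; group
    rw [h2] at h1
    exact no_comp_W0 _ h1
  · have h1 := isComponentOf_map (MulAut.conj g⁻¹) hK
    rw [map_centralizer_singleton] at h1
    have h2 : MulAut.conj g⁻¹ (g * Q 0 * g⁻¹) = Q 0 := by
      rw [MulAut.conj_apply]; group
    rw [h2] at h1
    have h3 := comp_Q0 h1
    exact ⟨(subMap (MulAut.conj g⁻¹) K).trans ((MulEquiv.subgroupCongr h3).trans eN.symm)⟩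

theorem compCard : CompCard (fun n m => n = 88704000 ∧ m = 44352000) Cfsg.Spor.HN := by
  intro t ht K hK
  obtain ⟨e⟩ := comp_iso ht hK
  exact ⟨(Nat.card_congr e.toEquiv).trans card_K, (Nat.card_congr (quoEquiv e).toEquiv).trans card_quo⟩

open Cfsg.Agent.KFacts.HN.CentTwoHN Cfsg.Agent.KFacts.HN.PCard in
/-- the 2-rank is at least 3 -/
theorem rank : PRankAtLeast 2 3 Cfsg.Spor.HN := by
  have hW : W0 * W0 = 1 := W0_sq
  have hQ : Q 0 * Q 0 = 1 := Q0_sq
  have hQW : Q 0 * W0 = W0 * Q 0 := (cw (by norm_num)).symm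
  have h1 : ¬ IsConj (Q 0) W0 := not_conj_QW
  have hn1 : IsConj z' W0 := isConj_iff.2 ⟨n⁻¹, by
    rw [inv_inv, mul_assoc, ← n_W0, inv_mul_cancel_left]⟩
  have hn2 : IsConj (W0 * z') z' := isConj_iff.2 ⟨n⁻¹, by
    rw [inv_inv, mul_assoc, ← n_z', inv_mul_cancel_left]⟩
  have hW1 : W0 ≠ 1 := W0_ne_one
  have hz1 : z' ≠ 1 := by
    intro h
    rw [h] at hn1
    exact hW1 (isConj_one_right.1 hn1)
  have hQ1 : Q 0 ≠ 1 := Q0_ne
  have inv_eq : ∀ {a b : Cfsg.Spor.HN}, a * a = 1 → a * b = 1 → b = a := by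
    intro a b ha hab
    exact mul_left_cancel (hab.trans ha.symm)
  refine rank_of_three (x := W0) (y := Q 0) (z := z') hW hQ z'_sq hQW.symm z'_comm (q_z' (by norm_num)) hW1 hQ1 hz1
    ?_ ?_ ?_ ?_
  · intro h
    exact h1 (by rw [inv_eq hW h])
  · intro h
    exact z'_ne (inv_eq hW h).symm
  · intro h
    apply h1
    rw [← inv_eq hQ h]
    exact hn1
  · intro h
    have h2 : Q 0 = W0 * z' := by
      have h3 : W0 * Q 0 = z'⁻¹ := mul_eq_one_iff_eq_inv.1 h
      have h4 : z'⁻¹ = z' := inv_eq_of_mul_eq_one_left z'_sq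
      rw [h4] at h3
      rw [← h3, ← mul_assoc, hW, one_mul]
    exact h1 (by rw [h2]; exact hn2.trans hn1)

/-- **The Harada-Norton group is of restricted even type.** -/
theorem restricted_hn {G : Type*} [Group G] [Finite G] (h : Spor.IsoHN G) : IsOfRestrictedEvenType G := by
  obtain ⟨e⟩ := h
  refine restricted (compC2.of_equiv e.symm) (RankThreeTwo.Base.congr e rank) (compCard.of_equiv e.symm) ?_
  rintro n m ⟨rfl, rfl⟩
  exact ⟨ne_of_between 561 (by norm_num) (by norm_num) (by norm_num), by norm_num⟩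

end Cfsg.Agent.CTwoTab.HN
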