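import Cfsg.Agent.CTwoTab.MonsterOf
import Cfsg.Agent.SigTab.RestList_m3
import Cfsg.Agent.MonsterU.NodesU
import Cfsg.Agent.H850.MonSub
import Cfsg.Agent.S1704
import Cfsg.Agent.Prune
set_option linter.all false
prune_inst 0x7f00000000000000000000000000000000000000000000000000000000000000000000000000000000000000000000000000000000000000000000000000000000000000000000000000000000000000003fffffffffffffffffffffffffffbeffbdffffffff

/-!
# The row of the Monster of the table "components of involution centralizers are `C₂`-groups" (helper13)

* `compC2` : every group isomorphic to the Monster satisfies `CompC2`;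
* `compCard` : the orders of the components of the involution centralizers and of their simple quotients;
* `rank_three` : 2-rank at least 3;
* `restricted`, `res` : the groups isomorphic to the Monster are of restricted even type
  (the row `SevenCases.SporRes.m`).
-/

set_option autoImplicit false

namespace Cfsg.Agent.CTwoTab.Monster

open Subgroup Cfsg Cfsg.Agent.CTwoTab

universe u

/-- `CompC2` for the group of the model -/
theorem model : CompC2 ↥Cfsg.Agent.MonsterX.InstData.M.G :=
  MonsterOf.compC2_of Cfsg.Agent.MonsterU.Uncond.all
    (Cfsg.Agent.MonsterP.NodesGrp.prel Cfsg.Agent.MonsterU.NodesU.hyp)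
    (Cfsg.Agent.MonsterP.NodesNe.ne Cfsg.Agent.MonsterU.NodesU.hyp) Cfsg.Agent.MonsterU.NodesU.conj_ten
    Cfsg.Agent.S1704.result

/-- the orders of the components, for the group of the model -/
theorem model_card :
    CompCard (fun n m => n = 8309562962452852382355161088000000 ∧ m = 4154781481226426191177580544000000)
      ↥Cfsg.Agent.MonsterX.InstData.M.G :=
  MonsterOf.compCard_of Cfsg.Agent.MonsterU.Uncond.all
    (Cfsg.Agent.MonsterP.NodesGrp.prel Cfsg.Agent.MonsterU.NodesU.hyp)
    (Cfsg.Agent.MonsterP.NodesNe.ne Cfsg.Agent.MonsterU.NodesU.hyp) Cfsg.Agent.MonsterU.NodesU.conj_ten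
    Cfsg.Agent.S1704.result

/-- 2-rank at least 3, for the group of the model -/
theorem model_rank : PRankAtLeast 2 3 ↥Cfsg.Agent.MonsterX.InstData.M.G :=
  MonsterOf.rank_three_of Cfsg.Agent.MonsterU.Uncond.all

/-- **Every group isomorphic to the Monster satisfies `CompC2`.** -/
theorem compC2 {G : Type u} [Group G] (h : Spor.IsoM G) : CompC2 G := by
  obtain ⟨e⟩ := h
  obtain ⟨f⟩ := Cfsg.Agent.MonsterP.Equiv.equiv
  exact model.of_equiv (e.trans f).symm

/-- The only component of the centralizer of an involution is `2.B`, if there is one. -/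
theorem compCard {G : Type u} [Group G] (h : Spor.IsoM G) :
    CompCard (fun n m => n = 8309562962452852382355161088000000 ∧ m = 4154781481226426191177580544000000) G := by
  obtain ⟨e⟩ := h
  obtain ⟨f⟩ := Cfsg.Agent.MonsterP.Equiv.equiv
  exact model_card.of_equiv (e.trans f).symm

/-- The 2-rank is at least 3. -/
theorem rank_three {G : Type u} [Group G] (h : Spor.IsoM G) : PRankAtLeast 2 3 G := by
  obtain ⟨e⟩ := h
  obtain ⟨f⟩ := Cfsg.Agent.MonsterP.Equiv.equiv
  exact RankThreeTwo.Base.congr (e.trans f) model_rank

/-- **Restricted even type.** -/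
theorem restricted {G : Type u} [Group G] [Finite G] (h : Spor.IsoM G) : IsOfRestrictedEvenType G := by
  refine CTwoTab.restricted (compC2 h) (rank_three h) (compCard h) ?_
  rintro n m ⟨rfl, rfl⟩
  exact ⟨fun q => ne_of_between 255193373378 (by norm_num) (by norm_num) (by norm_num) q, by norm_num⟩

/-- The row of the Monster in the table of S1802 and S1803. -/
theorem res : SevenCases.Res.{u} (fun X _ => Spor.IsoM X) := fun _ _ _ h => restricted h

end Cfsg.Agent.CTwoTab.Monster
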